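/-
The unitary group as a group of isometries, and the members of the classes for it.
-/
import Mathlib
import Cfsg.Prelude.Def_GeometricClasses
import Cfsg.Agent.Aschbacher.Formed.Centre
import Cfsg.Agent.Aschbacher.Formed.Quad
import Cfsg.Agent.Lib.Forms.HermStd

set_option autoImplicit false
set_option linter.style.haveILetI false

namespace Cfsg.Agent.Aschbacher

open Matrix
open Cfsg.Geo

variable {F : Type*} [Field F] [Fintype F] {n q : ℕ} (hF : Fintype.card F = q ^ 2)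

/-- The automorphism `x ↦ x ^ q` of the field with `q²` elements. -/
def qAut : F ≃+* F :=
  RingEquiv.ofRingHom (Forms.HermStd.qHom hF) (Forms.HermStd.qHom hF)
    (RingHom.ext (Forms.HermStd.qHom_qHom hF)) (RingHom.ext (Forms.HermStd.qHom_qHom hF))

lemma qAut_apply (x : F) : qAut hF x = x ^ q := rfl

lemma qAut_qAut (x : F) : qAut hF (qAut hF x) = x := Forms.HermStd.pow_q_q hF x

lemma exists_qAut_ne : ∃ a : F, qAut hF a ≠ a := by
  by_contra h
  push Not at h
  exact Forms.HermStd.qHom_ne_id hF (RingHom.ext h)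

/-- The standard unitary form as form data. -/
noncomputable def hermData (n : ℕ) (hF : Fintype.card F = q ^ 2) : FormData (Fin n) F where
  τ := qAut hF
  T := 1
  ε := 1
  invol := qAut_qAut hF
  isUnit := by rw [Matrix.det_one]; exact isUnit_one
  refl := by rw [Matrix.map_one _ (map_zero _) (map_one _), Matrix.transpose_one, one_smul]

lemma hermData_τ : (hermData n hF).τ = qAut hF := rfl

lemma hermData_form : (hermData n hF).form = Cfsg.hermForm n F q := by
  funext u v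
  show u ⬝ᵥ (1 : Matrix (Fin n) (Fin n) F) *ᵥ _ = _
  rw [Matrix.one_mulVec]
  rfl

lemma hermData_swap (u v : Fin n → F) :
    (hermData n hF).form v u = qAut hF ((hermData n hF).form u v) := by
  rw [← hermData_τ (n := n), (hermData n hF).τ_form]
  exact (one_mul _).symm

lemma mem_GU {g : GL (Fin n) F} :
    g ∈ Cfsg.GU n F q ↔ ∀ u v, (hermData n hF).form ((g : Matrix (Fin n) (Fin n) F) *ᵥ u)
      ((g : Matrix (Fin n) (Fin n) F) *ᵥ v) = (hermData n hF).form u v := by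
  rw [hermData_form]
  exact Forms.HermStd.mem_GU_iff

lemma GU_le_sim : Cfsg.GU n F q ≤ (hermData n hF).sim := fun g hg => ⟨1, fun u v => by
  rw [Units.val_one, one_mul]; exact (mem_GU hF).1 hg u v⟩

lemma sim_eq : (hermData n hF).sim = similarityGroup (Cfsg.hermForm n F q) := by
  rw [FormData.sim, hermData_form]

lemma hermData_scalars_le_sim : scalars (Fin n) F ≤ (hermData n hF).sim := by
  intro g hg
  obtain ⟨c, hc⟩ := (Cfsg.Geo.mem_scalars_iff g).1 hg
  refine ⟨c * Units.mk0 (qAut hF c) ((map_ne_zero _).2 c.ne_zero), fun u v => ?_⟩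
  rw [hc, smul_mulVec', smul_mulVec', FormData.form_smul_left, FormData.form_smul_right, hermData_τ,
    Units.val_mul, Units.val_mk0, mul_assoc]

/-- The structures whose stabilisers, cut with GU, are the members of the classes. -/
def IsUnMember (n : ℕ) (F : Type*) [Field F] [Fintype F] (q : ℕ) (M : Subgroup (GL (Fin n) F)) : Prop :=
  let f := Cfsg.hermForm n F q
  (∃ W : Submodule F (Fin n → F), W ≠ ⊥ ∧ IsTotallySingularFor f W ∧ M = subspaceStabilizer W) ∨
  (∃ W : Submodule F (Fin n → F), W ≠ ⊥ ∧ IsNondegenerateOn f W ∧ 2 * Module.finrank F W < n ∧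
      M = subspaceStabilizer W) ∨
  (∃ (t k : ℕ) (D : Fin t → Submodule F (Fin n → F)), IsNondegenerateMDecomposition f k D ∧
      M = decompositionStabilizer D) ∨
  (∃ (k : ℕ) (D : Fin 2 → Submodule F (Fin n → F)), 2 * k = n ∧ IsMDecomposition k D ∧
      (∀ i, IsTotallySingularFor f (D i)) ∧ M = decompositionStabilizer D) ∨
  (∃ (F₀ : Subfield F) (r : ℕ) (P : GL (Fin n) F), r.Prime ∧ Odd r ∧ Fintype.card F = Nat.card F₀ ^ r ∧
      IsFormRationalStructure f F₀ 1 P ∧ M = subfieldSubgroup F₀ P) ∨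
  (∃ (F₀ : Subfield F) (P : GL (Fin n) F), Odd q ∧ Fintype.card F = Nat.card F₀ ^ 2 ∧
      IsFormRationalStructure f F₀ 1 P ∧ M = subfieldSubgroup F₀ P) ∨
  (∃ (F₀ : Subfield F) (P : GL (Fin n) F) (ζ : F), Even n ∧ Fintype.card F = Nat.card F₀ ^ 2 ∧ ζ ≠ 0 ∧
      ζ + ζ ^ q = 0 ∧ IsFormRationalStructure f F₀ ζ P ∧
      (∀ u : Fin n → F, (∀ i, u i ∈ F₀) →
        f ((P : Matrix (Fin n) (Fin n) F) *ᵥ u) ((P : Matrix (Fin n) (Fin n) F) *ᵥ u) = 0) ∧
      M = subfieldSubgroup F₀ P) ∨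
  (∃ (r : ℕ) (R : Subgroup (GL (Fin n) F)) (p e k : ℕ), IsSymplecticTypeGroup r R ∧
      ActsAbsolutelyIrreducibly (matrixSet R) ∧ R ≤ similarityGroup f ∧ r ≠ p ∧
      IsMinimalFieldFor (Nat.card (Subgroup.center R)) p e F ∧
      ((Odd r ∧ Nat.card (Subgroup.center R) = r ∧ 1 ≤ k ∧ Nat.card R = r ^ (1 + 2 * k)) ∨
       (r = 2 ∧ e = 2 ∧ Nat.card (Subgroup.center R) = 4 ∧ Nat.card R = 2 ^ (2 + 2 * k))) ∧
      n = r ^ k ∧ (∀ x ∈ R, ∀ y ∈ R, x * y * x⁻¹ * y⁻¹ ∈ scalars (Fin n) F) ∧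
      M = subgroupNormalizer R) ∨
  (∃ (r : ℕ) (K : Subalgebra F (Matrix (Fin n) (Fin n) F)), r.Prime ∧ Odd r ∧ IsFieldSubalgebra r K ∧
      IsAdjointClosedFor f K ∧ M = subalgebraNormalizer K) ∨
  (∃ (n₁ n₂ : ℕ) (e : Fin n ≃ Fin n₁ × Fin n₂) (P : GL (Fin n) F)
      (f₁ : (Fin n₁ → F) → (Fin n₁ → F) → F) (f₂ : (Fin n₂ → F) → (Fin n₂ → F) → F),
      2 ≤ n₁ ∧ n₁ < n₂ ∧ IsUnitaryFormPow q f₁ ∧ IsUnitaryFormPow q f₂ ∧
      IsTensorFormStructure (fun x : F => x ^ q) f f₁ f₂ e P ∧ M = tensorProductSubgroup n₁ n₂ e P) ∨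
  (∃ (k t : ℕ) (e : Fin n ≃ (Fin t → Fin k)) (P : GL (Fin n) F) (f₁ : (Fin k → F) → (Fin k → F) → F),
      3 ≤ k ∧ 2 ≤ t ∧ ¬ (q = 2 ∧ k = 3) ∧ IsUnitaryFormPow q f₁ ∧
      IsTensorPowerFormStructure (fun x : F => x ^ q) f f₁ e P ∧ M = tensorWreathSubgroup k t e P)

lemma IsUnMember.inUnitaryClass {M : Subgroup (GL (Fin n) F)} (h : IsUnMember n F q M) :
    InUnitaryClass n F q (M ⊓ Cfsg.GU n F q) := by
  unfold IsUnMember at h
  unfold InUnitaryClass InUnitaryPartialClass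
  rcases h with ⟨W, h1, h2, rfl⟩ | ⟨W, h1, h2, h3, rfl⟩ | ⟨t, k, D, h1, rfl⟩ | ⟨k, D, h1, h2, h3, rfl⟩ |
    ⟨F₀, r, P, h1, h2, h3, h4, rfl⟩ | ⟨F₀, P, h1, h2, h3, rfl⟩ | ⟨F₀, P, ζ, h1, h2, h3, h4, h5, h6, rfl⟩ |
    ⟨r, R, p, e, k, h1, h2, h3, h4, h5, h6, -, -, rfl⟩ | ⟨r, K, h1, h2, h3, h4, rfl⟩ |
    ⟨n₁, n₂, e, P, f₁, f₂, h1, h2, h3, h4, h5, rfl⟩ | ⟨k, t, e, P, f₁, h1, h2, h3, h4, h5, rfl⟩
  · exact Or.inl (Or.inl ⟨W, h1, h2, rfl⟩)
  · exact Or.inl (Or.inr (Or.inl ⟨W, h1, h2, h3, rfl⟩))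
  · exact Or.inl (Or.inr (Or.inr (Or.inl ⟨t, k, D, h1, rfl⟩)))
  · exact Or.inl (Or.inr (Or.inr (Or.inr (Or.inl ⟨k, D, h1, h2, h3, rfl⟩))))
  · exact Or.inl (Or.inr (Or.inr (Or.inr (Or.inr (Or.inl ⟨F₀, r, P, h1, h2, h3, h4, rfl⟩)))))
  · exact Or.inl (Or.inr (Or.inr (Or.inr (Or.inr (Or.inr (Or.inl ⟨F₀, P, h1, h2, h3, rfl⟩))))))
  · exact Or.inl (Or.inr (Or.inr (Or.inr (Or.inr (Or.inr (Or.inr (Or.inl
      ⟨F₀, P, ζ, h1, h2, h3, h4, h5, h6, rfl⟩)))))))
  · exact Or.inl (Or.inr (Or.inr (Or.inr (Or.inr (Or.inr (Or.inr (Or.inr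
      ⟨r, R, p, e, k, h1, h2, h3, h4, h5, h6, rfl⟩)))))))
  · exact Or.inr (Or.inl ⟨r, K, h1, h2, h3, h4, rfl⟩)
  · exact Or.inr (Or.inr (Or.inl ⟨n₁, n₂, e, P, f₁, f₂, h1, h2, h3, h4, h5, rfl⟩))
  · exact Or.inr (Or.inr (Or.inr ⟨k, t, e, P, f₁, h1, h2, h3, h4, h5, rfl⟩))

/-- `H` is contained in one of the structures. -/
def InUnClass (q : ℕ) (H : Subgroup (GL (Fin n) F)) : Prop :=
  ∃ M : Subgroup (GL (Fin n) F), IsUnMember n F q M ∧ H ≤ M

variable {H : Subgroup (GL (Fin n) F)}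

lemma InUnClass.exists_inUnitaryClass (h : InUnClass q H) (hH : H ≤ Cfsg.GU n F q) :
    ∃ M, InUnitaryClass n F q M ∧ H ≤ M := by
  obtain ⟨M, hM, hle⟩ := h
  exact ⟨_, hM.inUnitaryClass, le_inf hle hH⟩

include hF in
lemma inUnClass_decomposition (h : (hermData n hF).HasNondegDecomposition H) : InUnClass q H := by
  obtain ⟨t, k, E, hE, hle⟩ := h
  rw [hermData_form] at hE
  exact ⟨_, Or.inr (Or.inr (Or.inl ⟨t, k, E, hE, rfl⟩)), hle⟩

include hF in
lemma inUnClass_of_reducible [NeZero n] (hH : H ≤ Cfsg.GU n F q) (hred : ¬ Irred H) : InUnClass q H := by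
  rcases (hermData n hF).reducible_cases (hH.trans (GU_le_sim hF)) hred with
    ⟨W, h0, hts, hle⟩ | ⟨W, h0, hnd, hlt, hle⟩ | ⟨k, E, hk, hE, hle⟩
  · rw [hermData_form] at hts
    exact ⟨_, Or.inl ⟨W, h0, hts, rfl⟩, hle⟩
  · rw [hermData_form] at hnd
    rw [Fintype.card_fin] at hlt
    exact ⟨_, Or.inr (Or.inl ⟨W, h0, hnd, hlt, rfl⟩), hle⟩
  · exact inUnClass_decomposition hF ⟨2, k, E, hE, hle⟩

omit [Fintype F] in
lemma two_mul_eq_of_pair {k : ℕ} {E : Fin 2 → Submodule F (Fin n → F)} (hE : IsMDecomposition k E) :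
    2 * k = n := by
  have hcompl : IsCompl (E 0) (E 1) := by
    refine ⟨hE.indep.pairwiseDisjoint (show (0 : Fin 2) ≠ 1 by decide), codisjoint_iff.2 ?_⟩
    rw [← hE.iSup_eq_top, eq_comm]
    exact le_antisymm (iSup_le fun i => by fin_cases i <;> simp) (sup_le (le_iSup E 0) (le_iSup E 1))
  have := Submodule.finrank_add_eq_of_isCompl hcompl
  rw [hE.finrank_eq, hE.finrank_eq, Module.finrank_fintype_fun_eq_card, Fintype.card_fin] at this
  omega

include hF in
lemma inUnClass_of_pair (h : (hermData n hF).HasSingularPair H) : InUnClass q H := by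
  obtain ⟨k, E, e, hE, hts, hle, -, -⟩ := h
  rw [hermData_form] at hts
  exact ⟨_, Or.inr (Or.inr (Or.inr (Or.inl ⟨k, E, two_mul_eq_of_pair hE, hE, hts, rfl⟩))), hle⟩

/-- An adjoint-closed field of matrices has odd degree. -/
theorem odd_finrank_of_adj_closed [NeZero n] {K : Subalgebra F (Matrix (Fin n) (Fin n) F)}
    (hcomm : ∀ x ∈ K, ∀ y ∈ K, x * y = y * x) (hinv : ∀ x ∈ K, x ≠ 0 → ∃ y ∈ K, x * y = 1)
    (hadj : ∀ x ∈ K, (hermData n hF).adj x ∈ K) : Odd (Module.finrank F K) := by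
  classical
  by_contra hodd
  obtain ⟨j, hj⟩ := Nat.not_odd_iff_even.1 hodd
  set D := hermData n hF with hD
  have hfield : IsField K :=
    { exists_pair_ne := ⟨0, 1, zero_ne_one⟩
      mul_comm := fun a b => Subtype.ext (hcomm a a.2 b b.2)
      mul_inv_cancel := fun {a} ha => by
        obtain ⟨y, hy, h⟩ := hinv a a.2 fun h => ha (Subtype.ext h)
        exact ⟨⟨y, hy⟩, Subtype.ext h⟩ }
  letI : Field K := hfield.toField
  haveI : Module.Finite F K := Module.Finite.of_finite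
  let σ : K →+* K :=
    { toFun := fun a => ⟨D.adj a, hadj a a.2⟩
      map_one' := Subtype.ext D.adj_one
      map_mul' := fun a b => Subtype.ext (by
        show D.adj ((a : Matrix (Fin n) (Fin n) F) * b) = D.adj a * D.adj b
        rw [hcomm a a.2 b b.2, D.adj_mul])
      map_zero' := Subtype.ext D.adj_zero
      map_add' := fun a b => Subtype.ext (D.adj_add a b) }
  have hσσ : ∀ a, σ (σ a) = a := fun a => Subtype.ext (D.adj_adj _)
  obtain ⟨a₀, ha₀⟩ := exists_qAut_ne hF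
  set α : K := algebraMap F K a₀ with hα
  have hσα : σ α = algebraMap F K (qAut hF a₀) := Subtype.ext (by
    show D.adj (algebraMap F (Matrix (Fin n) (Fin n) F) a₀) = algebraMap F _ (qAut hF a₀)
    rw [Algebra.algebraMap_eq_smul_one, Algebra.algebraMap_eq_smul_one, D.adj_scalar]
    rfl)
  have hne : α - σ α ≠ 0 := by
    rw [hσα, sub_ne_zero, hα]
    exact fun h => ha₀ ((algebraMap F K).injective h).symm
  let K₀ : Subfield K := RingHom.eqLocusField σ (RingHom.id K)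
  have hmem : ∀ x : K, x ∈ K₀ ↔ σ x = x := fun x => Iff.rfl
  have hy : ∀ z : K, (z - σ z) / (α - σ α) ∈ K₀ := fun z => by
    rw [hmem, map_div₀, map_sub, map_sub, hσσ, hσσ, ← neg_sub z, ← neg_sub α, neg_div_neg_eq]
  have hx : ∀ z : K, z - α * ((z - σ z) / (α - σ α)) ∈ K₀ := fun z => by
    rw [hmem, map_sub, map_mul, (hmem _).1 (hy z)]
    field_simp
    ring
  let eqv : K₀ × K₀ ≃ K :=
    { toFun := fun p => (p.1 : K) + α * p.2
      invFun := fun z => (⟨_, hx z⟩, ⟨_, hy z⟩)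
      left_inv := by
        rintro ⟨⟨x, hxm⟩, ⟨y, hym⟩⟩
        have h1 : (x + α * y - σ (x + α * y)) / (α - σ α) = y := by
          rw [div_eq_iff hne, map_add, map_mul, (hmem x).1 hxm, (hmem y).1 hym]
          ring
        refine Prod.ext (Subtype.ext ?_) (Subtype.ext h1)
        show x + α * y - α * _ = x
        rw [h1, add_sub_cancel_right]
      right_inv := fun z => by
        show z - α * _ + α * _ = z
        rw [sub_add_cancel] }
  have hcard : Nat.card K = Fintype.card F ^ (j + j) := by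
    rw [Module.natCard_eq_pow_finrank (K := F), hj, Nat.card_eq_fintype_card]
  have hcard₀ : Nat.card K₀ = Fintype.card F ^ j := by
    have h1 := Nat.card_congr eqv
    rw [Nat.card_prod, hcard, pow_add] at h1
    exact Nat.mul_self_inj.1 h1
  have hpowα : α ^ Nat.card K₀ = α := by
    rw [hcard₀, hα, ← map_pow, FiniteField.pow_card_pow]
  -- the roots of `X ^ N - X` are exactly the fixed elements
  haveI : Fintype K := Fintype.ofFinite K
  set N := Nat.card K₀ with hN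
  have hN1 : 1 < N := Finite.one_lt_card
  have hpow : ∀ y : K, y ∈ K₀ → y ^ N = y := fun y hy => by
    have := congrArg Subtype.val (FiniteField.pow_card (⟨y, hy⟩ : K₀))
    rwa [← Nat.card_eq_fintype_card] at this
  have hp0 : (Polynomial.X ^ N - Polynomial.X : Polynomial K) ≠ 0 :=
    FiniteField.X_pow_card_sub_X_ne_zero K hN1
  let S : Finset K := Finset.univ.filter fun y => y ^ N = y
  have hle : S.card ≤ N := by
    calc S.card ≤ (Polynomial.X ^ N - Polynomial.X : Polynomial K).roots.toFinset.card :=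
          Finset.card_le_card fun y hy => by
            rw [Multiset.mem_toFinset, Polynomial.mem_roots hp0]
            simp [(Finset.mem_filter.1 hy).2]
      _ ≤ _ := Multiset.toFinset_card_le _
      _ ≤ _ := Polynomial.card_roots' _
      _ = N := FiniteField.X_pow_card_sub_X_natDegree_eq K hN1
  let T : Finset K := Finset.univ.filter fun y => y ∈ K₀
  have hTc : T.card = N := by rw [hN, Nat.card_eq_fintype_card, Fintype.card_subtype]
  have heq : T = S := Finset.eq_of_subset_of_card_le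
    (fun y hy => Finset.mem_filter.2 ⟨Finset.mem_univ _, hpow y (Finset.mem_filter.1 hy).2⟩)
    (hTc ▸ hle)
  have hαT : α ∈ T := heq ▸ Finset.mem_filter.2 ⟨Finset.mem_univ _, hpowα⟩
  exact hne (sub_eq_zero.2 ((hmem α).1 (Finset.mem_filter.1 hαT).2).symm)

/-- A field of matrices normalised by `H` puts `H` in a class. -/
lemma inUnClass_of_field [NeZero n] (h : (hermData n hF).HasField H) :
    InUnClass q H := by
  obtain ⟨Z, hcomm, hinv, hadj, hconj, z₀, hz₀, hns⟩ := h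
  set D := hermData n hF with hD
  obtain ⟨r, K, hr, hK, hKZ, hmem⟩ := exists_prime_subfield Z hcomm hinv hz₀ hns
  have hadjK : ∀ x ∈ K, D.adj x ∈ K := by
    intro x hx
    rw [hmem] at hx ⊢
    refine ⟨hadj x hx.1, ?_⟩
    conv_rhs => rw [← hx.2]
    generalize Fintype.card F ^ r = N
    induction N with
    | zero => rw [pow_zero, pow_zero, D.adj_one]
    | succ N ih => rw [pow_succ', pow_succ, ih, D.adj_mul]
  have hodd : Odd r := hK.finrank_eq ▸ odd_finrank_of_adj_closed hF hK.comm hK.inv hadjK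
  refine ⟨_, Or.inr (Or.inr (Or.inr (Or.inr (Or.inr (Or.inr (Or.inr (Or.inr (Or.inl
    ⟨r, K, hr, hodd, hK, fun x hx => ⟨_, hadjK x hx, ?_⟩, rfl⟩)))))))), fun g hg => ?_⟩
  · rw [← hermData_form hF]; exact D.form_mulVec_left x
  · refine mem_subalgebraNormalizer fun y hy => ?_
    rw [hmem] at hy ⊢
    exact ⟨hconj g hg y hy.1, by rw [← map_pow, hy.2]⟩

/-- The three outcomes of Clifford theory. -/
lemma inUnClass_of_centre_cases [NeZero n]
    (h : (hermData n hF).HasNondegDecomposition H ∨ (hermData n hF).HasSingularPair H ∨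
      (hermData n hF).HasField H) : InUnClass q H := by
  rcases h with h | h | h
  · exact inUnClass_decomposition hF h
  · exact inUnClass_of_pair hF h
  · exact inUnClass_of_field hF h

end Cfsg.Agent.Aschbacher
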