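/-
Tensor coordinates for the unitary form: normalising the factors and their Gram matrices.
-/
import Mathlib
import Cfsg.Agent.Aschbacher.Un.Base
import Cfsg.Agent.Aschbacher.Formed.Coord
import Cfsg.Agent.Aschbacher.WreathTwo
import Cfsg.Agent.Lib.AutPSL.Speiser

set_option autoImplicit false
set_option linter.style.haveILetI false

namespace Cfsg.Agent.Aschbacher

open Matrix
open Cfsg.Geo
open scoped Kronecker

variable {F : Type*} [Field F]

lemma kronecker_map (σ : F →+* F) {a b : Type*} (A : Matrix a a F) (B : Matrix b b F) :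
    (A ⊗ₖ B).map σ = A.map σ ⊗ₖ B.map σ := by
  ext ⟨i, p⟩ ⟨j, r⟩
  simp [Matrix.kronecker_apply]

lemma pureTensor_map (σ : F →+* F) {k t : ℕ} (x : Fin t → Matrix (Fin k) (Fin k) F) :
    (pureTensor x).map σ = pureTensor (fun i => (x i).map σ) := by
  ext f g
  simp [pureTensor_apply, map_prod]

lemma monTensor_map (σ : F →+* F) {k t : ℕ} (π : Equiv.Perm (Fin t))
    (gs : Fin t → Matrix (Fin k) (Fin k) F) :
    (monTensor π gs).map σ = monTensor π (fun i => (gs i).map σ) := by
  ext f g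
  simp [monTensor, map_prod]

/-- Congruence of a pure tensor by two monomial ones with the same permutation. -/
lemma monTensor_congr_two {k t : ℕ} (σ : Equiv.Perm (Fin t))
    (gs X hs : Fin t → Matrix (Fin k) (Fin k) F) :
    (monTensor σ gs)ᵀ * pureTensor X * monTensor σ hs =
      pureTensor (fun j => (gs (σ⁻¹ j))ᵀ * X (σ⁻¹ j) * hs (σ⁻¹ j)) := by
  rw [monTensor_transpose, ← monTensor_one_left X, monTensor_mul, monTensor_mul, ← monTensor_one_left]
  congr 1
  ext i
  simp

/-- A monomial tensor carries pure tensors to pure tensors. -/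
lemma monTensor_mul_pure {k t : ℕ} (σ : Equiv.Perm (Fin t))
    (gs : Fin t → GL (Fin k) F) (s : Fin t → Matrix (Fin k) (Fin k) F) :
    monTensor σ (fun i => (gs i : Matrix (Fin k) (Fin k) F)) * pureTensor s =
      pureTensor (fun i => (gs i : Matrix (Fin k) (Fin k) F) * s (σ i) *
        (((gs i)⁻¹ : GL (Fin k) F) : Matrix (Fin k) (Fin k) F)) * monTensor σ (fun i => (gs i : Matrix (Fin k) (Fin k) F)) := by
  rw [← monTensor_one_left s, monTensor_mul, ← monTensor_one_left, monTensor_mul]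
  congr 1
  funext i
  simp [mul_assoc]

/-- Pure tensors of invertible matrices as invertible matrices. -/
def pureUnit {k t : ℕ} : (Fin t → GL (Fin k) F) →* GL (Fin t → Fin k) F :=
  (Units.map pureTensor).comp
    (MulEquiv.piUnits (M := fun _ : Fin t => Matrix (Fin k) (Fin k) F)).symm.toMonoidHom

lemma pureUnit_coe {k t : ℕ} (s : Fin t → GL (Fin k) F) :
    (pureUnit s : Matrix (Fin t → Fin k) (Fin t → Fin k) F) =
      pureTensor (fun i => (s i : Matrix (Fin k) (Fin k) F)) := rfl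

lemma pureUnit_mem {k t : ℕ} (s : Fin t → GL (Fin k) F) :
    pureUnit s ∈ tensorWreathStandard k t F :=
  Subgroup.subset_closure (Or.inl ⟨s, fun _ _ => rfl⟩)

/-- The Kronecker product of invertible matrices as an invertible matrix. -/
def kronUnit {a k : ℕ} : GL (Fin a) F × GL (Fin k) F →* GL (Fin a × Fin k) F :=
  (Units.map
    { toFun := fun p : Matrix (Fin a) (Fin a) F × Matrix (Fin k) (Fin k) F => p.1 ⊗ₖ p.2
      map_one' := Matrix.one_kronecker_one
      map_mul' := fun p r => Matrix.mul_kronecker_mul p.1 r.1 p.2 r.2 }).comp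
    (MulEquiv.prodUnits (M := Matrix (Fin a) (Fin a) F) (N := Matrix (Fin k) (Fin k) F)).symm.toMonoidHom

lemma kronUnit_coe {a k : ℕ} (x : GL (Fin a) F) (y : GL (Fin k) F) :
    (kronUnit (x, y) : Matrix (Fin a × Fin k) (Fin a × Fin k) F) =
      (x : Matrix (Fin a) (Fin a) F) ⊗ₖ (y : Matrix (Fin k) (Fin k) F) := rfl

lemma kronUnit_mem {a k : ℕ} (x : GL (Fin a) F) (y : GL (Fin k) F) :
    kronUnit (x, y) ∈ kroneckerSubgroup a k F := ⟨x, y, rfl⟩

section General

variable {ι κ : Type} [Fintype ι] [DecidableEq ι] [Fintype κ] [DecidableEq κ]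

/-- A subgroup of coordinates does not see a change of basis from inside it. -/
lemma map_conj_change (L : Subgroup (GL κ F)) {X : GL κ F} (hX : X ∈ L) (e : ι ≃ κ) (P : GL ι F) :
    (L.map (glReindex e.symm).toMonoidHom).map (MulAut.conj P).toMonoidHom ≤
      (L.map (glReindex e.symm).toMonoidHom).map
        (MulAut.conj (P * glReindex e.symm X)).toMonoidHom := by
  rintro _ ⟨_, ⟨l, hl, rfl⟩, rfl⟩
  refine ⟨_, ⟨X⁻¹ * l * X, L.mul_mem (L.mul_mem (L.inv_mem hX) hl) hX, rfl⟩, ?_⟩
  set r := (glReindex e.symm : GL κ F ≃* GL ι F)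
  show P * r X * r (X⁻¹ * l * X) * (P * r X)⁻¹ = P * r l * P⁻¹
  rw [map_mul, map_mul, map_inv]
  group

namespace FormData

variable (D : FormData ι F)

lemma pull_change (e : ι ≃ κ) (P : GL ι F) (X : GL κ F) :
    D.pull e (P * glReindex e.symm X) =
      (X : Matrix κ κ F)ᵀ * D.pull e P * (X : Matrix κ κ F).map D.τ := by
  apply sesqForm_inj D.τ.toRingHom
  intro x y
  rw [show (X : Matrix κ κ F).map D.τ = (X : Matrix κ κ F).map D.τ.toRingHom from rfl,
    ← sesqForm_mulVec]
  show x ⬝ᵥ D.pull e (P * glReindex e.symm X) *ᵥ (D.τ ∘ y) = _ ⬝ᵥ D.pull e P *ᵥ (D.τ ∘ _)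
  rw [← form_pull, ← form_pull, Units.val_mul, ← Matrix.mulVec_mulVec, ← Matrix.mulVec_mulVec,
    coe_glReindex]
  simp only [Equiv.symm_symm]
  rw [Matrix.submatrix_mulVec_equiv, Matrix.submatrix_mulVec_equiv, Function.comp_assoc,
    Function.comp_assoc, Equiv.self_comp_symm, Function.comp_id, Function.comp_id]

/-- An element that is an isometry in coordinates is one. -/
lemma isometry_of_pull (e : ι ≃ κ) (P g : GL ι F)
    (h : (glCoord e P g : Matrix κ κ F)ᵀ * D.pull e P * (glCoord e P g : Matrix κ κ F).map D.τ =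
      D.pull e P) (u v : ι → F) :
    D.form ((g : Matrix ι ι F) *ᵥ u) ((g : Matrix ι ι F) *ᵥ v) = D.form u v := by
  have hu : ∀ u : ι → F, (P : Matrix ι ι F) *ᵥ
      ((((P⁻¹ : GL ι F) : Matrix ι ι F) *ᵥ u) ∘ e.symm ∘ e) = u := fun u => by
    rw [Equiv.symm_comp_self, Function.comp_id, Matrix.mulVec_mulVec, Units.mul_inv, Matrix.one_mulVec]
  rw [← hu u, ← hu v, ← Function.comp_assoc, ← Function.comp_assoc, ← glCoord_mulVec, ← glCoord_mulVec,
    form_pull, form_pull]
  show sesqForm D.τ.toRingHom _ _ _ = sesqForm D.τ.toRingHom _ _ _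
  rw [sesqForm_mulVec, show (glCoord e P g : Matrix κ κ F).map D.τ.toRingHom =
    (glCoord e P g : Matrix κ κ F).map D.τ from rfl, h]

end FormData

end General

variable [Fintype F] {n q : ℕ} (hF : Fintype.card F = q ^ 2)

/-- The matrix form of membership of GU. -/
lemma mem_GU_matrix {g : GL (Fin n) F} : g ∈ Cfsg.GU n F q ↔
    (g : Matrix (Fin n) (Fin n) F)ᵀ * (g : Matrix (Fin n) (Fin n) F).map (qAut hF) = 1 := by
  rw [mem_GU hF]
  have key : ∀ u v, (hermData n hF).form ((g : Matrix (Fin n) (Fin n) F) *ᵥ u)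
      ((g : Matrix (Fin n) (Fin n) F) *ᵥ v) = sesqForm (qAut hF).toRingHom
        ((g : Matrix (Fin n) (Fin n) F)ᵀ * (g : Matrix (Fin n) (Fin n) F).map (qAut hF)) u v := by
    intro u v
    show sesqForm (qAut hF).toRingHom 1 _ _ = _
    rw [sesqForm_mulVec, mul_one]
    rfl
  constructor
  · intro h
    refine sesqForm_inj (qAut hF).toRingHom fun u v => ?_
    rw [← key, h]
    rfl
  · intro h u v
    rw [key, h]
    rfl

include hF in
/-- A form matrix proportional to its conjugate transpose has a hermitian multiple. -/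
lemma exists_hermitian_smul {κ : Type*} {X : Matrix κ κ F} (hX : X ≠ 0) {c : F}
    (h : (X.map (qAut hF))ᵀ = c • X) :
    ∃ d : F, d ≠ 0 ∧ ((d • X).map (qAut hF))ᵀ = d • X := by
  obtain ⟨a₀, ha₀⟩ := exists_qAut_ne hF
  have hcc : qAut hF c * c = 1 := by
    have h1 := congrArg (fun M : Matrix κ κ F => (M.map (qAut hF))ᵀ) h
    simp only [Matrix.transpose_map, Matrix.map_map, Matrix.transpose_transpose] at h1
    rw [show (⇑(qAut hF) ∘ ⇑(qAut hF)) = id from funext (qAut_qAut hF), Matrix.map_id,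
      Matrix.map_smul' (qAut hF) c X (map_mul _), Matrix.transpose_smul, h, smul_smul] at h1
    obtain ⟨i, j, hij⟩ : ∃ i j, X i j ≠ 0 := by
      by_contra hh
      push Not at hh
      exact hX (Matrix.ext hh)
    have h2 := congrFun (congrFun h1 i) j
    simp only [Matrix.smul_apply, smul_eq_mul] at h2
    exact (mul_eq_right₀ hij).1 h2.symm
  obtain ⟨d, hd0, hd⟩ : ∃ d : F, d ≠ 0 ∧ qAut hF d * c = d := by
    by_cases h1 : (1 : F) + c = 0
    · refine ⟨a₀ - qAut hF a₀, sub_ne_zero.2 (Ne.symm ha₀), ?_⟩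
      rw [map_sub, qAut_qAut]
      linear_combination (qAut hF a₀ - a₀) * h1
    · refine ⟨1 + c, h1, ?_⟩
      rw [map_add, map_one, add_mul, one_mul, hcc, add_comm]
  exact ⟨d, hd0, by rw [Matrix.map_smul' (qAut hF) d X (map_mul _), Matrix.transpose_smul, h, smul_smul, hd]⟩

/-- An invertible hermitian matrix gives a unitary form. -/
lemma isUnitaryFormPow_sesqForm {k : ℕ} {G : Matrix (Fin k) (Fin k) F} (hG : IsUnit G.det)
    (h : (G.map (qAut hF))ᵀ = G) : IsUnitaryFormPow q (sesqForm (qAut hF).toRingHom G) where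
  add_left x y v := by simp [sesqForm, add_dotProduct]
  smul_left c x v := by simp [sesqForm, smul_dotProduct]
  herm v w := by
    rw [← qAut_apply hF]
    simp only [sesqForm, dotProduct, Matrix.mulVec, Finset.mul_sum, map_sum, map_mul,
      Function.comp_apply, RingEquiv.toRingHom_eq_coe, RingEquiv.coe_toRingHom]
    rw [Finset.sum_comm]
    refine Finset.sum_congr rfl fun i _ => Finset.sum_congr rfl fun j _ => ?_
    have h1 : qAut hF (G i j) = G j i := by simpa using congrFun (congrFun h j) i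
    rw [h1, qAut_qAut]
    ring
  nondegenerate := isNondegenerateForm_sesqForm _ hG

include hF in
/-- Hermitian matrices are congruent to the identity. -/
lemma exists_orth {k : ℕ} {G : Matrix (Fin k) (Fin k) F} (hG : IsUnit G.det)
    (h : (G.map (qAut hF))ᵀ = G) : ∃ X : GL (Fin k) F,
      (X : Matrix (Fin k) (Fin k) F)ᵀ * G * (X : Matrix (Fin k) (Fin k) F).map (qAut hF) = 1 := by
  have hord : orderOf (qAut hF) = 2 := by
    refine orderOf_eq_prime (by rw [pow_two]; exact RingEquiv.ext (qAut_qAut hF)) fun h1 => ?_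
    obtain ⟨a, ha⟩ := exists_qAut_ne hF
    exact ha (DFunLike.congr_fun h1 a)
  obtain ⟨Gu, hGu⟩ := (Matrix.isUnit_iff_isUnit_det G).2 hG
  obtain ⟨B, hB⟩ := AutPSL.Speiser.hermitian_eq (qAut hF) hord Gu (by rw [hGu]; exact h)
  rw [hGu] at hB
  set Bm : Matrix (Fin k) (Fin k) F := (B : Matrix (Fin k) (Fin k) F) with hBm
  set Bi : Matrix (Fin k) (Fin k) F := ((B⁻¹ : GL (Fin k) F) : Matrix (Fin k) (Fin k) F) with hBi
  refine ⟨⟨Biᵀ, Bmᵀ, by rw [← Matrix.transpose_mul, hBm, hBi, Units.mul_inv, Matrix.transpose_one],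
    by rw [← Matrix.transpose_mul, hBm, hBi, Units.inv_mul, Matrix.transpose_one]⟩, ?_⟩
  show Biᵀᵀ * G * Biᵀ.map (qAut hF) = 1
  rw [hB, Matrix.transpose_transpose, ← mul_assoc, hBi, hBm, Units.inv_mul, one_mul, ← Matrix.transpose_map,
    ← Matrix.map_mul, ← Matrix.transpose_mul, Units.inv_mul, Matrix.transpose_one,
    Matrix.map_one _ (map_zero _) (map_one _)]

variable {H : Subgroup (GL (Fin n) F)}

/-- How isometries act on the tensor factors. -/
lemma exists_mon_similitudes {k t : ℕ} {e : Fin n ≃ (Fin t → Fin k)} {P : GL (Fin n) F}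
    {G : Matrix (Fin k) (Fin k) F} {c : F} (hc : c ≠ 0) (hG : G ≠ 0)
    (hpull : (hermData n hF).pull e P = c • pureTensor (fun _ => G))
    (hH : H ≤ Cfsg.GU n F q) (hle : H ≤ tensorWreathSubgroup k t e P) {g : GL (Fin n) F} (hg : g ∈ H) :
    ∃ (σ : Equiv.Perm (Fin t)) (gs : Fin t → GL (Fin k) F),
      (glCoord e P g : Matrix (Fin t → Fin k) (Fin t → Fin k) F) =
        monTensor σ (fun i => (gs i : Matrix (Fin k) (Fin k) F)) ∧
      ∀ i, ∃ d : F, (gs i : Matrix (Fin k) (Fin k) F)ᵀ * G *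
        (gs i : Matrix (Fin k) (Fin k) F).map (qAut hF) = d • G := by
  obtain ⟨σ, gs, hgs⟩ := exists_monTensor_of_mem_wreath (hle hg)
  have h := (hermData n hF).pull_isometry e P g ((mem_GU hF).1 (hH hg))
  rw [hpull, hgs, hermData_τ, show (monTensor σ fun i => (gs i : Matrix (Fin k) (Fin k) F)).map (qAut hF) =
    monTensor σ (fun i => (gs i : Matrix (Fin k) (Fin k) F).map (qAut hF)) from
      monTensor_map (qAut hF).toRingHom σ _, Matrix.mul_smul, Matrix.smul_mul, monTensor_congr_two] at h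
  have h1 := congrArg (c⁻¹ • ·) h
  simp only [smul_smul, inv_mul_cancel₀ hc, one_smul] at h1
  refine ⟨σ, gs, hgs, fun i => ?_⟩
  obtain ⟨d, hd⟩ := exists_smul_of_pureTensor (Y := fun _ : Fin t => G) one_ne_zero
    (fun _ => hG) (h1.trans (one_smul F _).symm) (σ i)
  exact ⟨d, by simpa using hd⟩

end Cfsg.Agent.Aschbacher
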