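/-
A group normalising an absolutely irreducible realisable group of unitary similitudes lies in one of
the subfield members.
-/
import Mathlib
import Cfsg.Agent.Aschbacher.Un.Base
import Cfsg.Agent.Aschbacher.Formed.Descent
import Cfsg.Agent.Aschbacher.Formed.Coord
import Cfsg.Agent.Aschbacher.SymplecticType

set_option autoImplicit false
set_option linter.style.haveILetI false

namespace Cfsg.Agent.Aschbacher

open Matrix
open Cfsg.Geo

section Similar

variable {ι : Type} [Fintype ι] [DecidableEq ι] {F : Type*} [Field F]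

/-- Two forms scaled in the same way by an absolutely irreducible group are proportional. -/
theorem exists_smul_of_similar (σ : F →+* F) {P : Subgroup (GL ι F)}
    (habs : ActsAbsolutelyIrreducibly (matrixSet P)) {T T' : Matrix ι ι F} (hT : IsUnit T.det)
    (h : ∀ s ∈ P, ∃ m : F, (s : Matrix ι ι F)ᵀ * T * (s : Matrix ι ι F).map σ = m • T ∧
      (s : Matrix ι ι F)ᵀ * T' * (s : Matrix ι ι F).map σ = m • T') :
    ∃ c : F, T' = c • T := by
  obtain ⟨c, hc⟩ := habs.2 (T' * T⁻¹)ᵀ (by
    rintro _ ⟨s, hs, rfl⟩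
    obtain ⟨m, h1, h2⟩ := h s hs
    have hM : (s : Matrix ι ι F)ᵀ * (T' * T⁻¹) = (T' * T⁻¹) * (s : Matrix ι ι F)ᵀ := by
      set S : Matrix ι ι F := (s : Matrix ι ι F)ᵀ
      set S' : Matrix ι ι F := (s : Matrix ι ι F).map σ
      set S'' : Matrix ι ι F := ((s⁻¹ : GL ι F) : Matrix ι ι F).map σ
      have hS : S' * S'' = 1 := coe_inv_mul_map σ s
      have h3 : S * T = m • (T * S'') := by
        rw [← mul_one (S * T), ← hS, ← mul_assoc, h1, Matrix.smul_mul]
      have h4 : S * T' = m • (T' * S'') := by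
        rw [← mul_one (S * T'), ← hS, ← mul_assoc, h2, Matrix.smul_mul]
      have h5 : T⁻¹ * S = m • (S'' * T⁻¹) := by
        calc T⁻¹ * S = T⁻¹ * (S * T) * T⁻¹ := by
              simp only [mul_assoc, Matrix.mul_nonsing_inv T hT, mul_one]
          _ = m • ((T⁻¹ * T) * (S'' * T⁻¹)) := by
              rw [h3]; simp only [Matrix.mul_smul, Matrix.smul_mul, mul_assoc]
          _ = m • (S'' * T⁻¹) := by rw [Matrix.nonsing_inv_mul T hT, one_mul]
      calc S * (T' * T⁻¹) = m • (T' * (S'' * T⁻¹)) := by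
            rw [← mul_assoc, h4, Matrix.smul_mul, mul_assoc]
        _ = (T' * T⁻¹) * S := by rw [mul_assoc T', h5, Matrix.mul_smul]
    have := congrArg Matrix.transpose hM
    simpa [Matrix.transpose_mul] using this)
  refine ⟨c, ?_⟩
  have h1 := congrArg Matrix.transpose hc
  rw [Matrix.transpose_transpose, Matrix.transpose_smul, Matrix.transpose_one] at h1
  have := congrArg (fun M => M * T) h1
  simpa [mul_assoc, Matrix.nonsing_inv_mul T hT] using this

/-- A form scaled by rational multipliers by a group written over a subfield has a rational multiple. -/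
theorem exists_rational_multiple [Finite F] [Nonempty ι] (τ : F →+* F) (F₁ : Subfield F)
    {P : Subgroup (GL ι F)} (habs : ActsAbsolutelyIrreducibly (matrixSet P)) {T : Matrix ι ι F}
    (hT : IsUnit T.det)
    (h : ∀ s ∈ P, ∃ m ∈ F₁, (s : Matrix ι ι F)ᵀ * T * (s : Matrix ι ι F).map τ = m • T)
    (hP : ∀ s ∈ P, ∀ i j, (s : Matrix ι ι F) i j ∈ F₁) :
    ∃ c : F, c ≠ 0 ∧ ∀ i j, c * T i j ∈ F₁ := by
  obtain ⟨i₀, j₀, hne⟩ : ∃ i j, T i j ≠ 0 := by
    by_contra hall
    push Not at hall
    rw [show T = 0 from Matrix.ext hall, Matrix.det_zero] at hT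
    exact not_isUnit_zero hT
  obtain ⟨l, hl⟩ := Module.Projective.exists_dual_ne_zero F₁ hne
  let T0 : Matrix ι ι F := T.map fun x => ((l x : F₁) : F)
  have hlin : ∀ (a c : F), c ∈ F₁ → ((l (c * a) : F₁) : F) = c * (l a : F₁) := by
    intro a c hc
    have := l.map_smul ⟨c, hc⟩ a
    rw [Subfield.smul_def, smul_eq_mul] at this
    rw [this]
    rfl
  obtain ⟨c, hc⟩ := exists_smul_of_similar τ habs (T' := T0) hT fun s hs => by
    obtain ⟨m, hm, hms⟩ := h s hs
    refine ⟨m, hms, Matrix.ext fun i j => ?_⟩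
    have h1 := congrArg (fun x => ((l x : F₁) : F)) (congrFun (congrFun hms i) j)
    rw [Matrix.smul_apply, smul_eq_mul, hlin _ _ hm] at h1
    simp only [Matrix.mul_apply, Matrix.transpose_apply, Matrix.map_apply, Finset.sum_mul, map_sum,
      AddSubmonoidClass.coe_finsetSum] at h1
    rw [Matrix.smul_apply, smul_eq_mul]
    simp only [Matrix.mul_apply, Matrix.transpose_apply, Matrix.map_apply, Finset.sum_mul, T0]
    convert h1 using 1
    refine Finset.sum_congr rfl fun u _ => Finset.sum_congr rfl fun v _ => ?_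
    have hm : (s : Matrix ι ι F) v i * τ ((s : Matrix ι ι F) u j) ∈ F₁ :=
      mul_mem (hP s hs v i) (map_mem_subfield τ F₁ (hP s hs u j))
    rw [mul_right_comm, ← hlin _ _ hm, mul_right_comm]
  refine ⟨c, fun h0 => hl ?_, fun i j => ?_⟩
  · have := congrFun (congrFun hc i₀) j₀
    rw [h0, zero_smul, Matrix.zero_apply] at this
    exact Subtype.ext this
  · have := congrFun (congrFun hc i) j
    rw [Matrix.smul_apply, smul_eq_mul] at this
    rw [← this]
    exact (l (T i j)).2

/-- A group normalising an absolutely irreducible group of similitudes with rational multipliers,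
realisable over a proper subfield, lies in a subfield group compatible with the form. -/
theorem FormData.exists_subfield_member_sim [Fintype F] [Nonempty ι] (D : FormData ι F)
    {H P : Subgroup (GL ι F)} (habs : ActsAbsolutelyIrreducibly (matrixSet P))
    (hnorm : ∀ g ∈ H, ∀ x ∈ P, g * x * g⁻¹ ∈ P) {F₀ : Subfield F}
    (hfix : ∀ s ∈ P, ∃ m ∈ F₀, (s : Matrix ι ι F)ᵀ * D.T * (s : Matrix ι ι F).map D.τ = m • D.T)
    (hne : F₀ ≠ ⊤) (hreal : RealisableOver F₀ (matrixSet P)) :
    ∃ (F₁ : Subfield F) (r : ℕ) (Q : GL ι F) (ζ : F), r.Prime ∧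
      Fintype.card F = Nat.card F₁ ^ r ∧ ζ ≠ 0 ∧
      IsFormRationalStructure D.form F₁ ζ Q ∧ H ≤ subfieldSubgroup F₁ Q := by
  obtain ⟨F₁, r, hle, hr, hcard, -⟩ := exists_prime_index_subfield F₀ hne
  obtain ⟨B, hB⟩ := map_mem_of_le hle hreal
  have hB' : ∀ s ∈ P, ∀ i j, conjMat B (s : Matrix ι ι F) i j ∈ F₁ := fun s hs => hB _ (mem_matrixSet hs)
  set Bi : Matrix ι ι F := ((B⁻¹ : GL ι F) : Matrix ι ι F) with hBi
  set P' := P.map (MulAut.conj B).toMonoidHom with hP'
  set T1 := Biᵀ * D.T * Bi.map D.τ with hT1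
  have hT1u : IsUnit T1.det := by
    rw [hT1, Matrix.det_mul, Matrix.det_mul, Matrix.det_transpose]
    refine ((Matrix.GeneralLinearGroup.det B⁻¹).isUnit.mul D.isUnit).mul ?_
    rw [show (Bi.map D.τ).det = D.τ Bi.det from (RingEquiv.map_det D.τ _).symm]
    exact (Matrix.GeneralLinearGroup.det B⁻¹).isUnit.map D.τ
  have hfix' : ∀ s ∈ P', ∃ m ∈ F₁,
      (s : Matrix ι ι F)ᵀ * T1 * (s : Matrix ι ι F).map D.τ = m • T1 := by
    rintro _ ⟨s, hs, rfl⟩
    obtain ⟨m, hm, hms⟩ := hfix s hs
    refine ⟨m, hle hm, ?_⟩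
    have h1 : Bi * (((MulAut.conj B) s : GL ι F) : Matrix ι ι F) = (s : Matrix ι ι F) * Bi := by
      rw [hBi, ← Units.val_mul, ← Units.val_mul, MulAut.conj_apply]
      congr 1
      group
    show (((MulAut.conj B) s : GL ι F) : Matrix ι ι F)ᵀ * T1 *
      (((MulAut.conj B) s : GL ι F) : Matrix ι ι F).map D.τ = m • T1
    calc _ = (Bi * (((MulAut.conj B) s : GL ι F) : Matrix ι ι F))ᵀ * D.T *
          (Bi * (((MulAut.conj B) s : GL ι F) : Matrix ι ι F)).map D.τ := by
          rw [hT1, Matrix.transpose_mul, Matrix.map_mul]; simp only [mul_assoc]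
      _ = Biᵀ * ((s : Matrix ι ι F)ᵀ * D.T * (s : Matrix ι ι F).map D.τ) * Bi.map D.τ := by
          rw [h1, Matrix.transpose_mul, Matrix.map_mul]; simp only [mul_assoc]
      _ = m • T1 := by rw [hms, Matrix.mul_smul, Matrix.smul_mul]
  have habs' : ActsAbsolutelyIrreducibly (matrixSet P') := by
    constructor
    · rw [actsIrreducibly_iff]
      intro W hW
      have hirr := (actsIrreducibly_iff _).1 habs.1
        (W.comap (Matrix.toLin' (B : Matrix ι ι F))) (by
          rintro _ ⟨s, hs, rfl⟩ v hv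
          rw [Submodule.mem_comap, Matrix.toLin'_apply] at hv ⊢
          have h1 := hW _ (mem_matrixSet (Subgroup.mem_map_of_mem _ hs : (MulAut.conj B) s ∈ P')) _ hv
          simpa [MulAut.conj_apply, Matrix.mulVec_mulVec, mul_assoc] using h1)
      have hsurj : Function.Surjective (Matrix.toLin' (B : Matrix ι ι F)) := fun w =>
        ⟨Bi *ᵥ w, by rw [Matrix.toLin'_apply, Matrix.mulVec_mulVec, hBi, Units.mul_inv, Matrix.one_mulVec]⟩
      rcases hirr with h | h
      · left
        rw [← Submodule.map_comap_eq_of_surjective hsurj W, h, Submodule.map_bot]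
      · right
        rw [← Submodule.map_comap_eq_of_surjective hsurj W, h, Submodule.map_top,
          LinearMap.range_eq_top.2 hsurj]
    · intro M hM
      obtain ⟨c, hc⟩ := habs.2 (conjMat B⁻¹ M) (by
        rintro _ ⟨s, hs, rfl⟩
        apply (conjMat B).injective
        have hBB : conjMat B (conjMat B⁻¹ M) = M := by simp [conjMat_apply, mul_assoc]
        show conjMat B (_ * (s : Matrix ι ι F)) = conjMat B ((s : Matrix ι ι F) * _)
        rw [map_mul (conjMat B), map_mul (conjMat B), hBB, conjMat_units]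
        exact hM _ (mem_matrixSet (Subgroup.mem_map_of_mem _ hs : (MulAut.conj B) s ∈ P')))
      refine ⟨c, ?_⟩
      have h1 := congrArg (conjMat B) hc
      rw [map_smul, map_one] at h1
      simpa [conjMat_apply, mul_assoc] using h1
  obtain ⟨c, hc0, hc⟩ := exists_rational_multiple D.τ.toRingHom F₁ habs' hT1u hfix' (by
    rintro _ ⟨s, hs, rfl⟩ i j
    have := hB' s hs i j
    rwa [conjMat_units] at this)
  refine ⟨F₁, r, B⁻¹, c, hr, hcard, hc0, fun u v hu hv => ?_, fun g hg =>
    mem_subfieldSubgroup_of_normalizes habs F₁ B hB' (hnorm g hg)⟩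
  show c * sesqForm D.τ.toRingHom D.T (Bi *ᵥ u) (Bi *ᵥ v) ∈ F₁
  rw [sesqForm_mulVec]
  show c * (u ⬝ᵥ T1 *ᵥ (D.τ.toRingHom ∘ v)) ∈ F₁
  simp only [dotProduct, Matrix.mulVec, Finset.mul_sum]
  refine sum_mem fun i _ => sum_mem fun j _ => ?_
  rw [show c * (u i * (T1 i j * (D.τ.toRingHom ∘ v) j)) =
    u i * ((c * T1 i j) * D.τ.toRingHom (v j)) by simp only [Function.comp_apply]; ring]
  exact mul_mem (hu i) (mul_mem (hc i j) (map_mem_subfield _ _ (hv j)))

lemma subfieldSubgroup_scalar_mul (F₁ : Subfield F) (a : Fˣ) (Q : GL ι F) :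
    subfieldSubgroup F₁ (scalarUnit ι F a * Q) = subfieldSubgroup F₁ Q := by
  have h : MulAut.conj (scalarUnit ι F a * Q) = MulAut.conj Q := by
    refine MulEquiv.ext fun g => ?_
    rw [MulAut.conj_apply, MulAut.conj_apply]
    calc scalarUnit ι F a * Q * g * (scalarUnit ι F a * Q)⁻¹
        = scalarUnit ι F a * (Q * g * Q⁻¹) * (scalarUnit ι F a)⁻¹ := by group
      _ = Q * g * Q⁻¹ := by rw [← scalarUnit_comm a (Q * g * Q⁻¹), mul_inv_cancel_right]
  rw [subfieldSubgroup, subfieldSubgroup, h]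

end Similar

variable {F : Type*} [Field F] [Fintype F] {n q : ℕ} (hF : Fintype.card F = q ^ 2)
  {H : Subgroup (GL (Fin n) F)}

include hF in
/-- In odd degree over a subfield the involution is not trivial on the subfield. -/
lemma exists_qAut_ne_mem {F₁ : Subfield F} {r : ℕ} (hr : Odd r)
    (hcard : Fintype.card F = Nat.card F₁ ^ r) : ∃ b ∈ F₁, qAut hF b ≠ b := by
  classical
  by_contra hall
  push Not at hall
  set N := Nat.card F₁ with hN
  set K : Subfield F := RingHom.eqLocusField (qAut hF).toRingHom (RingHom.id F) with hK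
  have hle : F₁ ≤ K := fun x hx => hall x hx
  -- the fixed field has at most `q` elements
  have hq := Forms.HermStd.one_lt_q hF
  have hKq : Nat.card K ≤ q := by
    rw [Nat.card_eq_fintype_card, Fintype.card_subtype]
    calc _ ≤ (Polynomial.X ^ q - Polynomial.X : Polynomial F).roots.toFinset.card :=
          Finset.card_le_card fun y hy => by
            rw [Multiset.mem_toFinset, Polynomial.mem_roots (FiniteField.X_pow_card_sub_X_ne_zero F hq)]
            have h : y ^ q = y := (Finset.mem_filter.1 hy).2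
            simp [h]
      _ ≤ _ := Multiset.toFinset_card_le _
      _ ≤ _ := Polynomial.card_roots' _
      _ = q := FiniteField.X_pow_card_sub_X_natDegree_eq F hq
  letI : Algebra F₁ K := (Subfield.inclusion hle).toAlgebra
  set s := Module.finrank F₁ K
  have hKs : Nat.card K = N ^ s := Module.natCard_eq_pow_finrank (K := F₁) (V := K)
  -- `F` is quadratic over the fixed field
  have hK2 : Nat.card K = q := by
    refine le_antisymm hKq ?_
    obtain ⟨a₀, ha₀⟩ := exists_qAut_ne hF
    have hne : a₀ - qAut hF a₀ ≠ 0 := sub_ne_zero.2 (Ne.symm ha₀)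
    have hmem : ∀ x : F, x ∈ K ↔ qAut hF x = x := fun x => Iff.rfl
    have hy : ∀ z : F, (z - qAut hF z) / (a₀ - qAut hF a₀) ∈ K := fun z => by
      rw [hmem, map_div₀, map_sub, map_sub, qAut_qAut, qAut_qAut, ← neg_sub z, ← neg_sub a₀, neg_div_neg_eq]
    have hx : ∀ z : F, z - a₀ * ((z - qAut hF z) / (a₀ - qAut hF a₀)) ∈ K := fun z => by
      rw [hmem, map_sub, map_mul, (hmem _).1 (hy z)]
      field_simp
      ring
    let f : F → K × K := fun z => (⟨_, hx z⟩, ⟨_, hy z⟩)
    have hinj : Function.Injective f := fun z w h => by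
      have h1 := congrArg (fun p : K × K => (p.1 : F) + a₀ * p.2) h
      simpa [f] using h1
    have h1 := Nat.card_le_card_of_injective f hinj
    rw [Nat.card_prod, Nat.card_eq_fintype_card, hF, ← sq] at h1
    exact (Nat.pow_le_pow_iff_left two_ne_zero).1 h1
  have hN1 : 1 < N := Finite.one_lt_card
  have h2 : N ^ r = N ^ (s * 2) := by rw [pow_mul, ← hKs, hK2, ← hF, hcard]
  exact Nat.not_even_iff_odd.2 hr ⟨s, by rw [Nat.pow_right_injective hN1 h2]; ring⟩

include hF in
/-- Over a subfield of index two the involution is trivial. -/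
lemma qAut_eq_of_mem {F₁ : Subfield F} (hcard : Fintype.card F = Nat.card F₁ ^ 2) {x : F}
    (hx : x ∈ F₁) : qAut hF x = x := by
  classical
  have hq : Nat.card F₁ = q := Nat.pow_left_injective two_ne_zero (hcard.symm.trans hF)
  have := congrArg Subtype.val (FiniteField.pow_card (⟨x, hx⟩ : F₁))
  rw [← Nat.card_eq_fintype_card, hq] at this
  exact this

include hF in
/-- An irreducible group in a subfield group compatible with the form lies in a member. -/
theorem inUnClass_of_rational [NeZero n] (hn : 2 ≤ n) (hH : H ≤ Cfsg.GU n F q) (hirr : Irred H)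
    {F₁ : Subfield F} {r : ℕ} {Q : GL (Fin n) F} {ζ : F} (hr : r.Prime)
    (hcard : Fintype.card F = Nat.card F₁ ^ r) (hζ : ζ ≠ 0)
    (hrat : IsFormRationalStructure (hermData n hF).form F₁ ζ Q) (hle : H ≤ subfieldSubgroup F₁ Q) :
    InUnClass q H := by
  classical
  set D := hermData n hF with hD
  set G := D.pull (Equiv.refl _) Q with hG
  have hform : ∀ x y : Fin n → F, D.form ((Q : Matrix (Fin n) (Fin n) F) *ᵥ x)
      ((Q : Matrix (Fin n) (Fin n) F) *ᵥ y) = x ⬝ᵥ G *ᵥ (qAut hF ∘ y) := fun x y => by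
    rw [← hermData_τ (n := n), ← D.form_pull (Equiv.refl _) Q x y]
    rfl
  have hherm : (G.map (qAut hF))ᵀ = G := by
    have h := D.pull_refl (Equiv.refl _) Q
    rw [hermData_τ, show D.ε = 1 from rfl, one_smul] at h
    exact h
  have hGu : IsUnit G.det := D.isUnit_det_pull _ _
  have hG0 : ∃ i j, G i j ≠ 0 := by
    by_contra hall
    push Not at hall
    exact hGu.ne_zero (by rw [show G = 0 from Matrix.ext hall, Matrix.det_zero])
  have hent : ∀ i j, ζ * G i j ∈ F₁ := by
    intro i j
    have h := hrat (Pi.single i 1) (Pi.single j 1)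
      (fun k => by by_cases h : k = i <;> simp [h, one_mem, zero_mem])
      (fun k => by by_cases h : k = j <;> simp [h, one_mem, zero_mem])
    rw [hform] at h
    have h1 : qAut hF ∘ (Pi.single j (1 : F) : Fin n → F) = Pi.single j 1 := by
      funext k
      by_cases h : k = j
      · subst h; simp
      · simp [Pi.single_eq_of_ne h]
    rw [h1] at h
    simpa using h
  have hswap : ∀ i j, qAut hF (G i j) = G j i := fun i j => by
    simpa using congrFun (congrFun hherm j) i
  -- the ratio
  obtain ⟨i₀, j₀, hne⟩ := hG0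
  set c := qAut hF ζ / ζ with hc
  have hτζ : qAut hF ζ = c * ζ := by rw [hc, div_mul_cancel₀ _ hζ]
  have hc1 : ∀ i j, qAut hF (ζ * G i j) = c * (ζ * G j i) := fun i j => by
    rw [map_mul, hswap, hτζ, mul_assoc]
  have hcF : c ∈ F₁ := by
    have hne' : G j₀ i₀ ≠ 0 := fun h0 => hne (by rw [← hswap j₀ i₀, h0, map_zero])
    have h1 : c = qAut hF (ζ * G i₀ j₀) / (ζ * G j₀ i₀) := by
      rw [hc1, mul_div_assoc, div_self (mul_ne_zero hζ hne'), mul_one]
    rw [h1]
    exact div_mem (map_mem_subfield (qAut hF).toRingHom F₁ (hent i₀ j₀)) (hent j₀ i₀)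
  have hcc : c * qAut hF c = 1 := by
    rw [hc, map_div₀, qAut_qAut]
    field_simp [(map_ne_zero (qAut hF)).2 hζ]
  rcases hr.eq_two_or_odd' with rfl | hodd
  swap
  -- odd degree: the structure can be rescaled
  · obtain ⟨b, hb, hbne⟩ := exists_qAut_ne_mem hF hodd hcard
    obtain ⟨d, hdF, hd0, hd⟩ : ∃ d ∈ F₁, d ≠ 0 ∧ qAut hF d * c = d := by
      by_cases h1 : (1 : F) + c = 0
      · refine ⟨b - qAut hF b, sub_mem hb (map_mem_subfield (qAut hF).toRingHom F₁ hb),
          sub_ne_zero.2 (Ne.symm hbne), ?_⟩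
        rw [map_sub, qAut_qAut]
        linear_combination (qAut hF b - b) * h1
      · refine ⟨1 + c, add_mem (one_mem _) hcF, h1, ?_⟩
        rw [map_add, map_one, add_mul, one_mul, mul_comm, hcc, add_comm]
    obtain ⟨a, ha⟩ := exists_mul_map_eq (qAut hF).toRingHom (qAut_qAut hF) (exists_qAut_ne hF).choose_spec
      (l := d * ζ) (by
        show qAut hF (d * ζ) = d * ζ
        rw [map_mul, hτζ, ← mul_assoc, hd]) (mul_ne_zero hd0 hζ)
    have ha0 : a ≠ 0 := fun h => mul_ne_zero hd0 hζ (by rw [← ha, h, zero_mul])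
    refine ⟨_, Or.inr (Or.inr (Or.inr (Or.inr (Or.inl
      ⟨F₁, r, scalarUnit (Fin n) F (Units.mk0 a ha0) * Q, hr, hodd, hcard, fun u v hu hv => ?_, rfl⟩)))),
      (subfieldSubgroup_scalar_mul F₁ _ Q).symm ▸ hle⟩
    rw [← hermData_form hF, ← hD, Units.val_mul, scalarUnit_coe, Units.val_mk0, Matrix.smul_mul, one_mul,
      smul_mulVec, smul_mulVec, D.form_smul_left, D.form_smul_right, one_mul, ← mul_assoc]
    have ha' : a * D.τ a = d * ζ := ha
    rw [ha', mul_assoc]
    exact mul_mem hdF (hrat u v hu hv)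
  -- index two
  have hfixF : ∀ x ∈ F₁, qAut hF x = x := fun x hx => qAut_eq_of_mem hF hcard hx
  have hq : Fintype.card F₁ = q := by
    rw [← Nat.card_eq_fintype_card]
    exact Nat.pow_left_injective two_ne_zero (hcard.symm.trans hF)
  have hsymm : ∀ i j, ζ * G i j = c * (ζ * G j i) := fun i j => by rw [← hc1, hfixF _ (hent i j)]
  rw [hfixF c hcF] at hcc
  have hpar : Odd q ↔ (2 : F) ≠ 0 := by
    rw [← odd_card_iff, hF, Nat.odd_pow_iff two_ne_zero]
  set N := ζ • G with hN
  have hNd : IsUnit N.det := isUnit_det_smul hGu hζ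
  -- the alternating case
  have halt : Nᵀ = -N → (∀ i, G i i = 0) → InUnClass q H := by
    intro hskew hdiag
    have hdiag' : ∀ i, N i i = 0 := fun i => by rw [hN, Matrix.smul_apply, hdiag, smul_zero]
    have heven : Even n := by
      have := even_card_of_alternating hskew hdiag' hNd
      rwa [Fintype.card_fin] at this
    have hsum : ζ + ζ ^ q = 0 := by
      have h1 : N j₀ i₀ = -N i₀ j₀ := congrFun (congrFun hskew i₀) j₀
      rw [hN, Matrix.smul_apply, Matrix.smul_apply, smul_eq_mul, smul_eq_mul, hsymm j₀ i₀] at h1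
      have h2 : c = -1 := by
        apply mul_right_cancel₀ (mul_ne_zero hζ hne)
        rw [h1, neg_one_mul]
      rw [← qAut_apply hF, hτζ, h2, neg_one_mul, add_neg_cancel]
    refine ⟨_, Or.inr (Or.inr (Or.inr (Or.inr (Or.inr (Or.inr (Or.inl
      ⟨F₁, Q, ζ, heven, hcard, hζ, hsum, ?_, fun u hu => ?_, rfl⟩)))))), hle⟩
    · rw [← hermData_form hF]; exact hrat
    · rw [← hermData_form hF, ← hD, hform, show qAut hF ∘ u = u from funext fun i => hfixF _ (hu i)]
      have h1 := (isSymplecticForm_sesqForm hskew hdiag' hNd).alternating u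
      rw [sesqForm, RingHom.coe_id, Function.id_comp, hN, Matrix.smul_mulVec, dotProduct_smul,
        smul_eq_mul] at h1
      exact (mul_eq_zero.1 h1).resolve_left hζ
  have hcases : c = 1 ∨ (c = -1 ∧ (2 : F) ≠ 0) := by
    rcases mul_self_eq_one_iff.1 hcc with h | h
    · exact Or.inl h
    · by_cases h2 : (2 : F) = 0
      · exact Or.inl (by rw [h, neg_eq_iff_add_eq_zero, one_add_one_eq_two, h2])
      · exact Or.inr ⟨h, h2⟩
  rcases hcases with hpos | ⟨hneg, h2⟩
  · -- symmetric
    have hζF : ζ ∈ F₁ ∧ ∀ i j, G i j = G j i := by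
      refine ⟨?_, fun i j => ?_⟩
      · have h1 : qAut hF ζ = ζ := by rw [hτζ, hpos, one_mul]
        by_contra hnot
        -- the fixed field of the involution is `F₁`
        let T : Finset F := Finset.univ.filter fun y => y ∈ F₁
        have hT : T.card = q := by rw [← hq, Fintype.card_subtype]
        let S : Finset F := Finset.univ.filter fun y => y ^ q = y
        have hq1 := Forms.HermStd.one_lt_q hF
        have hS : S.card ≤ q := by
          calc S.card ≤ (Polynomial.X ^ q - Polynomial.X : Polynomial F).roots.toFinset.card :=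
                Finset.card_le_card fun y hy => by
                  rw [Multiset.mem_toFinset, Polynomial.mem_roots (FiniteField.X_pow_card_sub_X_ne_zero F hq1)]
                  simp [(Finset.mem_filter.1 hy).2]
            _ ≤ _ := Multiset.toFinset_card_le _
            _ ≤ _ := Polynomial.card_roots' _
            _ = q := FiniteField.X_pow_card_sub_X_natDegree_eq F hq1
        have heq : T = S := Finset.eq_of_subset_of_card_le
          (fun y hy => Finset.mem_filter.2 ⟨Finset.mem_univ _, hfixF y (Finset.mem_filter.1 hy).2⟩)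
          (hT ▸ hS)
        exact hnot (Finset.mem_filter.1 (heq ▸ Finset.mem_filter.2 ⟨Finset.mem_univ _, h1⟩ : ζ ∈ T)).2
      · exact mul_left_cancel₀ hζ (by rw [hsymm i j, hpos, one_mul])
    obtain ⟨hζF, hGs⟩ := hζF
    have hGent : ∀ i j, G i j ∈ F₁ := fun i j => by
      have h1 := div_mem (hent i j) hζF
      rwa [mul_div_cancel_left₀ _ hζ] at h1
    by_cases h2 : (2 : F) = 0
    swap
    · refine ⟨_, Or.inr (Or.inr (Or.inr (Or.inr (Or.inr (Or.inl
        ⟨F₁, Q, hpar.2 h2, hcard, fun u v hu hv => ?_, rfl⟩))))), hle⟩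
      rw [← hermData_form hF, ← hD, one_mul]
      have h1 := div_mem (hrat u v hu hv) hζF
      rwa [mul_div_cancel_left₀ _ hζ] at h1
    have hnegid : ∀ x : F, -x = x := fun x => by rw [neg_eq_iff_add_eq_zero, ← two_mul, h2, zero_mul]
    by_cases hdiag : ∀ i, G i i = 0
    · refine halt (Matrix.ext fun i j => ?_) hdiag
      rw [Matrix.transpose_apply, Matrix.neg_apply, hnegid, hN, Matrix.smul_apply, Matrix.smul_apply, hGs]
    push Not at hdiag
    obtain ⟨i, hi⟩ := hdiag
    obtain ⟨E, K, hE, hK, hEK, hproj⟩ := exists_projection h2 hn (G := G) (Matrix.ext fun a b => hGs b a) hi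
    refine absurd hirr (not_irred_of_invariant (Equiv.refl _) Q hE hK hEK fun g hg => ?_)
    obtain ⟨g1, hg1, hg1Q⟩ := Subgroup.mem_map.1 (hle hg)
    obtain ⟨_, ⟨g0, rfl⟩, z, hz, rfl⟩ := Subgroup.mem_sup_of_normal_right.1 hg1
    obtain ⟨l, hl⟩ := (Cfsg.Geo.mem_scalars_iff z).1 hz
    set g' := Matrix.GeneralLinearGroup.map (F₁.subtype : F₁ →+* F) g0 with hg'
    have hco : (glCoord (Equiv.refl _) Q g : Matrix (Fin n) (Fin n) F) =
        (l : F) • (g' : Matrix (Fin n) (Fin n) F) := by
      rw [glCoord, coe_glReindex, ← hg1Q]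
      have : Q⁻¹ * ((MulAut.conj Q).toMonoidHom (g' * z)) * Q = g' * z := by
        rw [MulEquiv.coe_toMonoidHom, MulAut.conj_apply]; group
      rw [this, Units.val_mul, hl, Matrix.mul_smul, mul_one]
      rfl
    have hfix' : ∀ a b, qAut hF ((g' : Matrix (Fin n) (Fin n) F) a b) = (g' : Matrix (Fin n) (Fin n) F) a b :=
      fun a b => hfixF _ ((g0 : Matrix (Fin n) (Fin n) F₁) a b).2
    have hiso := D.pull_isometry (Equiv.refl _) Q g ((mem_GU hF).1 (hH hg))
    rw [← hG, hco, hermData_τ, Matrix.map_smul' (qAut hF) (l : F) _ (map_mul _),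
      show (g' : Matrix (Fin n) (Fin n) F).map (qAut hF) = (g' : Matrix (Fin n) (Fin n) F) from
        Matrix.ext hfix', Matrix.transpose_smul, Matrix.smul_mul, Matrix.smul_mul, Matrix.mul_smul,
      smul_smul] at hiso
    have hll : (l : F) * qAut hF l ≠ 0 := mul_ne_zero l.ne_zero ((map_ne_zero _).2 l.ne_zero)
    have hg0 : (g' : Matrix (Fin n) (Fin n) F)ᵀ * G * (g' : Matrix (Fin n) (Fin n) F) =
        ((l : F) * qAut hF l)⁻¹ • G := by
      conv_rhs => rw [← hiso]
      rw [smul_smul, inv_mul_cancel₀ hll, one_smul]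
    rw [hco, Matrix.mul_smul, Matrix.smul_mul, Matrix.smul_mul, hproj _ _ hg0]
  · -- skew
    refine halt (Matrix.ext fun i j => ?_) fun i => ?_
    · rw [Matrix.transpose_apply, Matrix.neg_apply, hN, Matrix.smul_apply, Matrix.smul_apply, smul_eq_mul,
        smul_eq_mul, hsymm j i, hneg, neg_one_mul]
    · have h1 := hsymm i i
      rw [hneg, neg_one_mul, eq_neg_iff_add_eq_zero, ← two_mul] at h1
      exact (mul_eq_zero.1 ((mul_eq_zero.1 h1).resolve_left h2)).resolve_left hζ

include hF in
/-- An irreducible group normalising an absolutely irreducible realisable group of similitudes with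
rational multipliers lies in a member. -/
theorem inUnClass_of_realisable [NeZero n] (hn : 2 ≤ n) (hH : H ≤ Cfsg.GU n F q) (hirr : Irred H)
    {P : Subgroup (GL (Fin n) F)} (habs : ActsAbsolutelyIrreducibly (matrixSet P))
    (hnorm : ∀ g ∈ H, ∀ x ∈ P, g * x * g⁻¹ ∈ P) {F₀ : Subfield F}
    (hfix : ∀ s ∈ P, ∃ m ∈ F₀, (s : Matrix (Fin n) (Fin n) F)ᵀ * (hermData n hF).T *
      (s : Matrix (Fin n) (Fin n) F).map (hermData n hF).τ = m • (hermData n hF).T)
    (hne : F₀ ≠ ⊤) (hreal : RealisableOver F₀ (matrixSet P)) : InUnClass q H := by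
  haveI : Nonempty (Fin n) := ⟨⟨0, by omega⟩⟩
  obtain ⟨F₁, r, Q, ζ, hr, hcard, hζ, hrat, hle⟩ :=
    (hermData n hF).exists_subfield_member_sim habs hnorm hfix hne hreal
  exact inUnClass_of_rational hF hn hH hirr hr hcard hζ hrat hle

end Cfsg.Agent.Aschbacher
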