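/-
A minimal normal subgroup which is abelian modulo scalars, unitary case.
-/
import Mathlib
import Cfsg.Agent.Aschbacher.Un.Subfield
import Cfsg.Agent.Aschbacher.Factors

set_option autoImplicit false
set_option linter.style.haveILetI false

namespace Cfsg.Agent.Aschbacher

open Matrix
open Cfsg.Geo

variable {F : Type*} [Field F] [Fintype F] {n q : ℕ} (hF : Fintype.card F = q ^ 2)

include hF in
/-- A minimal normal subgroup which is abelian modulo scalars gives a member. -/
theorem inUnClass_of_abelian [NeZero n] (hn : 2 ≤ n) {H N : Subgroup (GL (Fin n) F)}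
    (hH : H ≤ Cfsg.GU n F q) (hirr : Irred H) (hZN : scalars (Fin n) F ≤ N)
    (hns : ¬ N ≤ scalars (Fin n) F) (hNH : N ≤ H ⊔ scalars (Fin n) F)
    (hnorm : ∀ g ∈ H, ∀ x ∈ N, g * x * g⁻¹ ∈ N)
    (htop : Algebra.adjoin F (matrixSet N) = ⊤)
    (hcomm : ∀ x ∈ N, ∀ y ∈ N, x * y * x⁻¹ * y⁻¹ ∈ scalars (Fin n) F)
    (hmin : ∀ M : Subgroup (GL (Fin n) F), scalars (Fin n) F ≤ M → M ≤ N →
      (∀ g ∈ H, ∀ x ∈ M, g * x * g⁻¹ ∈ M) → M = scalars (Fin n) F ∨ M = N) :
    InUnClass q H := by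
  classical
  haveI : Nonempty (Fin n) := ⟨⟨0, by omega⟩⟩
  set D := hermData n hF with hD
  obtain ⟨r, R, hd, hRN, -, -⟩ :=
    exists_symplecticData_of_minimal (by rw [Fintype.card_fin]; exact hn) hZN hns hnorm htop hcomm hmin
  have hNsim : N ≤ D.sim :=
    hNH.trans (sup_le (hH.trans (GU_le_sim hF)) (hermData_scalars_le_sim hF))
  have habs := absIrred_of_adjoin_eq_top hd.adjoin_top
  obtain ⟨p, e, hp, he, hchar⟩ : ∃ p, ∃ e : ℕ+, p.Prime ∧ Fintype.card F = p ^ (e : ℕ) ∧ CharP F p := by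
    obtain ⟨e, hp, he⟩ := FiniteField.card F (ringChar F)
    exact ⟨_, e, hp, he, ringChar.charP F⟩
  haveI := hchar
  haveI : ExpChar F p := ExpChar.prime hp
  haveI : Fact p.Prime := ⟨hp⟩
  set z := r * Nat.gcd 2 r with hz
  -- the order of the centre
  have hoddp : r = 2 → p ≠ 2 := by
    rintro hr rfl
    exact hd.two_ne hr CharTwo.two_eq_zero
  have hcen : Nat.card (Subgroup.center R) = z := by
    rcases hd.prime.eq_two_or_odd' with h2 | hodd
    · rw [hd.card_center, ← hz]
      refine Nat.gcd_eq_right ?_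
      rw [Nat.card_units, Nat.card_eq_fintype_card, hF, hz, h2]
      have hq : Odd q := by
        have h1 := odd_card_iff.2 (hd.two_ne h2)
        rwa [hF, Nat.odd_pow_iff two_ne_zero] at h1
      obtain ⟨j, rfl⟩ := hq
      refine ⟨j * j + j, ?_⟩
      have : (2 * j + 1) ^ 2 = 2 * Nat.gcd 2 2 * (j * j + j) + 1 := by norm_num; ring
      omega
    · rw [hz, Nat.coprime_iff_gcd_eq_one.1 (Nat.coprime_two_left.2 hodd), mul_one]
      rcases hd.card_center_cases with ⟨-, h⟩ | ⟨h, -⟩
      · exact h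
      · exact absurd hodd (by rw [h]; decide)
  -- the multipliers are roots of unity
  have hmult : ∀ x ∈ R, ∃ m : F, m ^ z = 1 ∧ (x : Matrix (Fin n) (Fin n) F)ᵀ * D.T *
      (x : Matrix (Fin n) (Fin n) F).map D.τ = m • D.T := by
    intro x hx
    obtain ⟨m, hm⟩ := hNsim (hRN hx)
    have hpow : ∀ j : ℕ, ∀ u v, D.form (((x ^ j : GL (Fin n) F) : Matrix (Fin n) (Fin n) F) *ᵥ u)
        (((x ^ j : GL (Fin n) F) : Matrix (Fin n) (Fin n) F) *ᵥ v) = (m : F) ^ j * D.form u v := by
      intro j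
      induction j with
      | zero => intro u v; simp
      | succ j ih =>
        intro u v
        rw [pow_succ', Units.val_mul, ← Matrix.mulVec_mulVec, ← Matrix.mulVec_mulVec, hm, ih, pow_succ',
          mul_assoc]
    have hxz : x ^ z = 1 := by
      have h1 := Monoid.pow_exponent_eq_one (⟨x, hx⟩ : R)
      rw [hd.symplecticType.exponent_eq] at h1
      exact congrArg Subtype.val h1
    refine ⟨m, ?_, ?_⟩
    · obtain ⟨v, hv⟩ := exists_ne (0 : Fin n → F)
      obtain ⟨u, hu⟩ := (D.nondegenerate v hv).1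
      have h1 := hpow z u v
      rw [hxz, Units.val_one, Matrix.one_mulVec, Matrix.one_mulVec] at h1
      exact ((mul_eq_right₀ hu).1 h1.symm)
    · apply sesqForm_inj D.τ.toRingHom
      intro u v
      rw [show (x : Matrix (Fin n) (Fin n) F).map D.τ = (x : Matrix (Fin n) (Fin n) F).map D.τ.toRingHom from rfl,
        ← sesqForm_mulVec, sesqForm_smul]
      exact hm u v
  by_cases hsub : ∃ F₀ : Subfield F, F₀ ≠ ⊤ ∧ ∀ c : F, c ^ z = 1 → c ∈ F₀
  · obtain ⟨F₀, hne, hroots⟩ := hsub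
    refine inUnClass_of_realisable hF hn hH hirr habs hd.normalized (fun s hs => ?_) hne
      (realisableOver_of_trace F₀ R habs.1 hd.adjoin_top hd.card_ne fun x hx => ?_)
    · obtain ⟨m, hm, hms⟩ := hmult s hs
      exact ⟨m, hroots m hm, hms⟩
    · rcases hd.scalar_or_trace x hx with ⟨c, hc, rfl⟩ | h
      · exact Or.inl ⟨c, hroots c (by rw [← Units.val_pow_eq_pow_val, hc, Units.val_one]), scalarUnit_coe c⟩
      · exact Or.inr h
  push Not at hsub
  -- `F` is minimal
  have hzdvd : z ∣ p ^ (e : ℕ) - 1 := by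
    rw [← he, ← hcen, hd.card_center, ← Nat.card_eq_fintype_card, ← Nat.card_units]
    exact Nat.gcd_dvd_left _ _
  have hminimal : ∀ j : ℕ, 0 < j → j < e → ¬ z ∣ p ^ j - 1 := by
    intro j hj hje hdvd
    set F₀ : Subfield F := (iterateFrobenius F p j).eqLocusField (RingHom.id F) with hF₀
    have hne : F₀ ≠ ⊤ := by
      intro h
      obtain ⟨g, hg⟩ := IsCyclic.exists_generator (α := Fˣ)
      have h1 : (g : F) ^ p ^ j = g := (h ▸ Subfield.mem_top _ : (g : F) ∈ F₀)
      have h2 : g ^ (p ^ j - 1) = 1 := by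
        apply Units.ext
        have h4 : (g : F) ^ (p ^ j - 1) * g = 1 * g := by
          rw [← pow_succ, Nat.sub_add_cancel (Nat.one_le_pow _ _ hp.pos), h1, one_mul]
        simpa using mul_right_cancel₀ g.ne_zero h4
      have h5 := orderOf_dvd_of_pow_eq_one h2
      rw [orderOf_eq_card_of_forall_mem_zpowers hg, Nat.card_units, Nat.card_eq_fintype_card, he] at h5
      have hlt : p ^ j < p ^ (e : ℕ) := Nat.pow_lt_pow_right hp.one_lt hje
      have h6 := Nat.le_of_dvd (by have := Nat.one_lt_pow hj.ne' hp.one_lt; omega) h5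
      have := Nat.one_le_pow j p hp.pos; omega
    obtain ⟨c, hc, hcm⟩ := hsub F₀ hne
    apply hcm
    show c ^ p ^ j = c
    obtain ⟨l, hl⟩ := hdvd
    have h1 := Nat.one_le_pow j p hp.pos
    rw [show p ^ j = z * l + 1 by omega, pow_succ, pow_mul, hc, one_pow, one_mul]
  obtain ⟨m, hm1, hnm, hcard⟩ := hd.exists_m
  have hrp : r ≠ p := by
    rintro rfl
    exact hd.ne_char (CharP.cast_eq_zero F r)
  refine ⟨subgroupNormalizer R, Or.inr (Or.inr (Or.inr (Or.inr (Or.inr (Or.inr (Or.inr (Or.inl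
    ⟨r, R, p, e, m, hd.symplecticType, habs, ?_, hrp,
      ⟨hp, hchar, he, by rw [hcen]; exact hzdvd, fun j hj hje => by rw [hcen]; exact hminimal j hj hje⟩,
      ?_, by rw [← hnm, Fintype.card_fin], fun x hx y hy => hcomm x (hRN hx) y (hRN hy), rfl⟩))))))),
    fun g hg => ?_⟩
  · rw [← hermData_form hF]
    exact hRN.trans hNsim
  · rcases hd.prime.eq_two_or_odd' with h2 | hodd
    · right
      have hz4 : z = 4 := by rw [hz, h2]; rfl
      refine ⟨h2, ?_, by rw [hcen, hz4], by rw [hcard, hcen, hz4, h2, pow_add]; norm_num⟩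
      -- `p² ≡ 1` modulo 4
      obtain ⟨b, -, hb⟩ : ∃ b, b ≤ (e : ℕ) ∧ q = p ^ b :=
        (Nat.dvd_prime_pow hp).1 (he ▸ hF ▸ dvd_pow_self q two_ne_zero)
      have heb : (e : ℕ) = b * 2 := by
        refine Nat.pow_right_injective hp.two_le ?_
        show p ^ (e : ℕ) = p ^ (b * 2)
        rw [← he, hF, hb, ← pow_mul]
      by_contra hne2
      refine hminimal 2 two_pos (by have := e.pos; omega) ?_
      obtain ⟨j, rfl⟩ := hp.odd_of_ne_two (hoddp h2)
      rw [hz4]
      refine ⟨j * j + j, ?_⟩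
      have : (2 * j + 1) ^ 2 = 4 * (j * j + j) + 1 := by ring
      omega
    · left
      have hzr : z = r := by
        rw [hz, Nat.coprime_iff_gcd_eq_one.1 (Nat.coprime_two_left.2 hodd), mul_one]
      exact ⟨hodd, by rw [hcen, hzr], hm1, by rw [hcard, hcen, hzr, pow_add, pow_one]⟩
  · rw [subgroupNormalizer, Subgroup.mem_normalizer_iff]
    intro x
    refine ⟨fun hx => hd.normalized g hg x hx, fun hx => ?_⟩
    have := hd.normalized g⁻¹ (inv_mem hg) _ hx
    simpa [mul_assoc] using this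

end Cfsg.Agent.Aschbacher
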