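/-
The extraspecial group of order 27 inside GU_3(2).
-/
import Mathlib
import Cfsg.Agent.Aschbacher.Un.Coordinates
import Cfsg.Agent.Lib.Classical.UnitaryBasic
import Cfsg.Agent.S0827

set_option autoImplicit false
set_option linter.style.haveILetI false

namespace Cfsg.Agent.Aschbacher

open Matrix
open Cfsg.Geo
open Cfsg.Agent.Classical
open scoped commutatorElement

variable {F : Type*} [Field F]

lemma exists_omega [Fintype F] (hF : Fintype.card F = 2 ^ 2) :
    ∃ w : F, w * w = w + 1 ∧ w ≠ 0 ∧ w ≠ 1 ∧ (2 : F) = 0 := by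
  classical
  have h2 : (2 : F) = 0 := by
    by_contra h
    have h1 := odd_card_iff.2 h
    rw [hF] at h1
    exact absurd h1 (by decide)
  obtain ⟨w, hw0, hw1⟩ : ∃ w : F, w ≠ 0 ∧ w ≠ 1 := by
    by_contra h
    push Not at h
    have : (Finset.univ : Finset F) ⊆ {0, 1} := fun x _ => by
      by_cases hx : x = 0
      · simp [hx]
      · simp [h x hx]
    have := Finset.card_le_card this
    rw [Finset.card_univ, hF] at this
    exact absurd (this.trans Finset.card_le_two) (by decide)
  refine ⟨w, ?_, hw0, hw1, h2⟩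
  have h4 := FiniteField.pow_card w
  rw [hF] at h4
  have : w * (w - 1) * (w * w + w + 1) = 0 := by linear_combination h4
  have := (mul_eq_zero.1 this).resolve_left (mul_ne_zero hw0 (sub_ne_zero.2 hw1))
  linear_combination this - (w + 1) * h2

/-- The diagonal generator. -/
def heisD (w : F) : Matrix (Fin 3) (Fin 3) F := Matrix.diagonal ![1, w, w * w]

/-- The cyclic generator. -/
def heisP (F : Type*) [Field F] : Matrix (Fin 3) (Fin 3) F := !![0, 1, 0; 0, 0, 1; 1, 0, 0]

/-- The diagonal element moving the cyclic generator. -/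
def heisT (w : F) : Matrix (Fin 3) (Fin 3) F := Matrix.diagonal ![1, 1, w]

/-- The element exchanging the two generators. -/
def heisM (w : F) : Matrix (Fin 3) (Fin 3) F := !![1, 1, 1; 1, w, w * w; 1, w * w, w]

section Identities

variable {w : F} (hw : w * w = w + 1) (h2 : (2 : F) = 0)

include hw h2 in
lemma omega_cube : w * (w * w) = 1 := by linear_combination (w + 1) * hw + w * h2

include hw h2 in
lemma omega_sum : 1 + w + w * w = 0 := by linear_combination hw + (1 + w) * h2

lemma heisM_mul_D (h3 : w * (w * w) = 1) : heisM w * heisD w = heisP F * heisM w := by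
  ext i j
  fin_cases i <;> fin_cases j <;>
    simp [heisM, heisD, heisP, Matrix.mul_apply, Fin.sum_univ_three] <;>
    first
      | linear_combination h3
      | linear_combination -h3
      | linear_combination w * h3
      | linear_combination -w * h3

lemma heisT_mul_P (h3 : w * (w * w) = 1) :
    heisT w * heisP F = heisD w * heisD w * heisP F * heisT w := by
  ext i j
  fin_cases i <;> fin_cases j <;>
    simp [heisT, heisD, heisP, Matrix.mul_apply, Fin.sum_univ_three]
  all_goals first
    | linear_combination -(1 + w * (w * w)) * h3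
    | linear_combination h3
    | linear_combination w * h3
    | linear_combination -h3
    | linear_combination -w * h3
    | linear_combination (1 - w) * h3
    | linear_combination (w - 1) * h3

lemma heisP_mul_D (h3 : w * (w * w) = 1) : heisP F * heisD w = w • (heisD w * heisP F) := by
  ext i j
  fin_cases i <;> fin_cases j <;>
    simp [heisD, heisP, Matrix.mul_apply, Fin.sum_univ_three]
  all_goals linear_combination -h3

lemma heisD_cube (h3 : w * (w * w) = 1) : heisD w * heisD w * heisD w = 1 := by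
  ext i j
  fin_cases i <;> fin_cases j <;>
    simp [heisD, Matrix.mul_apply, Fin.sum_univ_three]
  all_goals first
    | linear_combination h3
    | linear_combination (1 + w * (w * w)) * h3
    | linear_combination w * (w * w) * h3
    | linear_combination -(w * (w * w)) * h3
    | linear_combination (1 + w * (w * w) - w) * h3
    | linear_combination (w - 1 - w * (w * w)) * h3

lemma heisP_cube : heisP F * heisP F * heisP F = 1 := by
  ext i j
  fin_cases i <;> fin_cases j <;>
    simp [heisP, Matrix.mul_apply, Fin.sum_univ_three]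

end Identities

/-- The determinant one isometries whose ninth power is trivial. -/
def IsHeis [Fintype F] (e : GL (Fin 3) F) : Prop :=
  e ∈ Cfsg.GU 3 F 2 ∧ e ∈ specialLinear (Fin 3) F ∧ e ^ 9 = 1

variable [Fintype F]

/-- These form a subgroup with scalar cubes and commutators. -/
theorem exists_heis_subgroup (hF : Fintype.card F = 2 ^ 2) :
    ∃ E : Subgroup (GL (Fin 3) F), (∀ e, e ∈ E ↔ IsHeis e) ∧
      (∀ a ∈ E, ∀ b ∈ E, a * b * a⁻¹ * b⁻¹ ∈ scalars (Fin 3) F) ∧
      (∀ a ∈ E, a ^ 3 ∈ scalars (Fin 3) F) ∧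
      (∀ g ∈ Cfsg.GU 3 F 2, ∀ e ∈ E, g * e * g⁻¹ ∈ E) := by
  classical
  obtain ⟨N, hNn, hN9, hN3, ⟨φ⟩⟩ := S0827.result (F := F) (hF.trans (by norm_num))
  haveI := hNn
  set S := Cfsg.SU 3 F 2
  set Z := Subgroup.center S
  let π : S →* Cfsg.PSU 3 F 2 := QuotientGroup.mk' Z
  have hZcard : Nat.card Z = 3 := Unitary.natCard_center hF (by norm_num)
  have hscal : ∀ z ∈ Z, (Matrix.SpecialLinearGroup.toGL (z : Matrix.SpecialLinearGroup (Fin 3) F)) ∈
      scalars (Fin 3) F := by
    intro z hz
    obtain ⟨a, ha⟩ := (Unitary.mem_center_iff hF (by norm_num) z).1 hz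
    exact mem_scalars_of_eq_smul _ a ha
  let K : Subgroup S := N.comap π
  let ι : S →* GL (Fin 3) F := Matrix.SpecialLinearGroup.toGL.comp S.subtype
  have hι : ∀ x : S, ι x ∈ Cfsg.GU 3 F 2 ∧ ι x ∈ specialLinear (Fin 3) F := fun x =>
    ⟨fun u v => x.2 u v, Units.ext x.1.2⟩
  have hιinj : Function.Injective ι := fun a b h =>
    Subtype.ext (Subtype.ext (congrArg Units.val h))
  have hK9 : ∀ x : S, x ∈ K ↔ x ^ 9 = 1 := by
    intro x
    constructor
    · intro hx
      have h1 : x ^ 3 ∈ Z := by
        rw [← QuotientGroup.eq_one_iff]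
        exact hN3 _ hx
      have h3 : (⟨x ^ 3, h1⟩ : Z) ^ 3 = 1 := by
        conv_lhs => arg 2; rw [← hZcard]
        exact pow_card_eq_one'
      have := congrArg Subtype.val h3
      rw [SubmonoidClass.coe_pow, Subgroup.coe_one] at this
      rw [show (9 : ℕ) = 3 * 3 from rfl, pow_mul]
      exact this
    · intro hx
      show π x ∈ N
      rw [← QuotientGroup.eq_one_iff (N := N)]
      apply φ.injective
      rw [map_one]
      have h9 : φ (QuotientGroup.mk (π x)) ^ 9 = 1 := by
        rw [← map_pow, ← QuotientGroup.mk_pow, ← map_pow, hx, map_one, QuotientGroup.mk_one, map_one]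
      have h8 : φ (QuotientGroup.mk (π x)) ^ 8 = 1 := by
        have := pow_card_eq_one' (G := QuaternionGroup 2) (x := φ (QuotientGroup.mk (π x)))
        rwa [Nat.card_eq_fintype_card, QuaternionGroup.card] at this
      rw [pow_succ, h8, one_mul] at h9
      exact h9
  have hE : ∀ e, e ∈ K.map ι ↔ IsHeis e := by
    intro e
    constructor
    · rintro ⟨x, hx, rfl⟩
      exact ⟨(hι x).1, (hι x).2, by rw [← map_pow, (hK9 x).1 hx, map_one]⟩
    · rintro ⟨hU, hSL, h9⟩
      have hd : (e : Matrix (Fin 3) (Fin 3) F).det = 1 := congrArg Units.val hSL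
      let x : S := ⟨⟨(e : Matrix (Fin 3) (Fin 3) F), hd⟩, fun u v => hU u v⟩
      have hx : ι x = e := Units.ext rfl
      exact ⟨x, (hK9 x).2 (hιinj (by rw [map_pow, hx, h9, map_one])), hx⟩
  have hNcomm : ∀ a ∈ N, ∀ b ∈ N, a * b = b * a := by
    haveI : Fact (Nat.Prime 3) := ⟨by norm_num⟩
    intro a ha b hb
    exact congrArg Subtype.val
      (((IsPGroup.isMulCommutative_of_card_eq_prime_sq (p := 3) (G := N) (hN9.trans (by norm_num))).is_comm.comm
        ⟨a, ha⟩ ⟨b, hb⟩))
  refine ⟨K.map ι, hE, ?_, ?_, fun g hg e he => ?_⟩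
  · rintro _ ⟨a, ha, rfl⟩ _ ⟨b, hb, rfl⟩
    rw [← map_inv, ← map_inv, ← map_mul, ← map_mul, ← map_mul]
    refine hscal (a * b * a⁻¹ * b⁻¹) ?_
    rw [← QuotientGroup.eq_one_iff]
    show π (a * b * a⁻¹ * b⁻¹) = 1
    rw [map_mul, map_mul, map_mul, map_inv, map_inv, hNcomm _ ha _ hb, mul_inv_cancel_right, mul_inv_cancel]
  · rintro _ ⟨a, ha, rfl⟩
    rw [← map_pow]
    exact hscal _ ((QuotientGroup.eq_one_iff _).1 (hN3 _ ha))
  · rw [hE] at he ⊢
    obtain ⟨hU, hSL, h9⟩ := he
    refine ⟨mul_mem (mul_mem hg hU) (inv_mem hg),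
      (MonoidHom.normal_ker (Matrix.GeneralLinearGroup.det : GL (Fin 3) F →* Fˣ)).conj_mem e hSL g, ?_⟩
    rw [conj_pow, h9, mul_one, mul_inv_cancel]

/-- The concrete elements of GU_3(2) and their relations. -/
structure HeisData (E : Subgroup (GL (Fin 3) F)) where
  D : GL (Fin 3) F
  P : GL (Fin 3) F
  T : GL (Fin 3) F
  M : GL (Fin 3) F
  w : Fˣ
  hD : D ∈ E
  hP : P ∈ E
  hT : T ∈ Cfsg.GU 3 F 2
  hM : M ∈ Cfsg.GU 3 F 2
  dcube : D ^ 3 = 1
  pcube : P ^ 3 = 1
  pd : P * D = scalarUnit (Fin 3) F w * D * P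
  td : T * D = D * T
  tp : T * P = D * D * P * T
  md : M * D = P * M
  ne_scalar : D ∉ scalars (Fin 3) F
  zero_diag : ∀ b : ℕ, b = 1 ∨ b = 2 → P ^ b * (D ^ b)⁻¹ ∉ scalars (Fin 3) F
  cube_roots : ∀ x : Fˣ, x = 1 ∨ x = w ∨ x = w * w
  wcube : w * w * w = 1
  span₂ : Algebra.adjoin F {(D : Matrix (Fin 3) (Fin 3) F), (P : Matrix (Fin 3) (Fin 3) F)} = ⊤

theorem exists_heisData (hF : Fintype.card F = 2 ^ 2) {E : Subgroup (GL (Fin 3) F)}
    (hE : ∀ e, e ∈ E ↔ IsHeis e) : Nonempty (HeisData E) := by
  classical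
  obtain ⟨w, hw, hw0, hw1, h2⟩ := exists_omega hF
  have h3 := omega_cube hw h2
  have hs := omega_sum hw h2
  have hτ : ∀ x : F, qAut hF x = x * x := fun x => by rw [qAut_apply, sq]
  have hneg : ∀ x : F, -x = x := fun x => by rw [neg_eq_iff_add_eq_zero, ← two_mul, h2, zero_mul]
  have hdD : (heisD w).det = 1 := by
    rw [heisD, Matrix.det_diagonal, Fin.prod_univ_three]
    simpa using h3
  have hdP : (heisP F).det = 1 := by simp [heisP, Matrix.det_fin_three]
  have hdT : (heisT w).det ≠ 0 := by
    rw [heisT, Matrix.det_diagonal, Fin.prod_univ_three]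
    simpa using hw0
  have hUD : (heisD w)ᵀ * (heisD w).map (qAut hF) = 1 := by
    ext i j
    fin_cases i <;> fin_cases j <;> simp [heisD, hτ]
    all_goals first
      | linear_combination h3
      | linear_combination (1 + w * (w * w)) * h3
      | linear_combination w * h3
      | linear_combination -w * h3
  have hUP : (heisP F)ᵀ * (heisP F).map (qAut hF) = 1 := by
    ext i j
    fin_cases i <;> fin_cases j <;> simp [heisP, Matrix.mul_apply, Fin.sum_univ_three]
  have hUT : (heisT w)ᵀ * (heisT w).map (qAut hF) = 1 := by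
    ext i j
    fin_cases i <;> fin_cases j <;> simp [heisT, hτ]
    all_goals linear_combination h3
  have hUM : (heisM w)ᵀ * (heisM w).map (qAut hF) = 1 := by
    ext i j
    fin_cases i <;> fin_cases j <;> simp [heisM, hτ, Matrix.mul_apply, Fin.sum_univ_three]
    all_goals first
      | linear_combination hs
      | linear_combination hs + (w + w * w + 1 + 1) * h3
      | linear_combination hs + w * h3
      | linear_combination (1 + w * (w * w)) * h3 + h3
      | linear_combination hs + (1 + w) * h3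
      | linear_combination h2
      | linear_combination (1 + w * (w * w) + 1) * h3 + h2
      | linear_combination h2 + h3 + (1 + w * (w * w)) * h3
      | linear_combination hs + (1 + w + w * w) * h3
      | linear_combination hs + w * w * h3
      | linear_combination w * h3
      | linear_combination hs + 2 * w * h3
      | linear_combination hs + (w + w * w) * h3
      | linear_combination hs + (w * w + 1) * h3
      | linear_combination (1 + w) * h3 + h2
      | linear_combination (w * (w * w) + 2) * h3 + h2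
  have hdM : (heisM w).det ≠ 0 := by
    intro h
    have := congrArg Matrix.det hUM
    rw [Matrix.det_mul, Matrix.det_transpose, h, zero_mul, Matrix.det_one] at this
    exact zero_ne_one this
  let D := Matrix.GeneralLinearGroup.mkOfDetNeZero (heisD w) (by rw [hdD]; exact one_ne_zero)
  let P := Matrix.GeneralLinearGroup.mkOfDetNeZero (heisP F) (by rw [hdP]; exact one_ne_zero)
  let T := Matrix.GeneralLinearGroup.mkOfDetNeZero (heisT w) hdT
  let M := Matrix.GeneralLinearGroup.mkOfDetNeZero (heisM w) hdM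
  have hD3 : D ^ 3 = 1 := Units.ext (by
    rw [pow_succ, pow_two]; exact heisD_cube h3)
  have hP3 : P ^ 3 = 1 := Units.ext (by
    rw [pow_succ, pow_two]; exact heisP_cube)
  have hDE : D ∈ E := (hE _).2 ⟨(mem_GU_matrix hF).2 hUD, Units.ext hdD,
    by rw [show (9 : ℕ) = 3 * 3 from rfl, pow_mul, hD3, one_pow]⟩
  have hPE : P ∈ E := (hE _).2 ⟨(mem_GU_matrix hF).2 hUP, Units.ext hdP,
    by rw [show (9 : ℕ) = 3 * 3 from rfl, pow_mul, hP3, one_pow]⟩
  refine ⟨{
    D := D, P := P, T := T, M := M, w := Units.mk0 w hw0, hD := hDE, hP := hPE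
    hT := (mem_GU_matrix hF).2 hUT
    hM := (mem_GU_matrix hF).2 hUM
    dcube := hD3, pcube := hP3
    pd := Units.ext (by
      rw [Units.val_mul, Units.val_mul, Units.val_mul, scalarUnit_coe, Units.val_mk0, Matrix.smul_mul,
        one_mul, Matrix.smul_mul]
      exact heisP_mul_D h3)
    td := Units.ext (by
      show heisT w * heisD w = heisD w * heisT w
      rw [heisT, heisD, Matrix.diagonal_mul_diagonal, Matrix.diagonal_mul_diagonal]
      simp [mul_comm])
    tp := Units.ext (heisT_mul_P h3)
    md := Units.ext (heisM_mul_D h3)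
    ne_scalar := ?_, zero_diag := ?_, cube_roots := ?_
    wcube := Units.ext (by rw [Units.val_mul, Units.val_mul, Units.val_mk0, Units.val_one, mul_assoc, h3])
    span₂ := ?_ }⟩
  · intro h
    obtain ⟨c, hc⟩ := (Cfsg.Geo.mem_scalars_iff _).1 h
    have e0 := congrFun (congrFun hc 0) 0
    have e1 := congrFun (congrFun hc 1) 1
    simp [D, heisD, Matrix.GeneralLinearGroup.mkOfDetNeZero] at e0 e1
    exact hw1 (by rw [e1, ← e0])
  · intro b hb h
    obtain ⟨c, hc⟩ := (Cfsg.Geo.mem_scalars_iff _).1 h
    have h1 : ((P ^ b : GL (Fin 3) F) : Matrix (Fin 3) (Fin 3) F) =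
        (c : F) • ((D ^ b : GL (Fin 3) F) : Matrix (Fin 3) (Fin 3) F) := by
      have := congrArg (· * ((D ^ b : GL (Fin 3) F) : Matrix (Fin 3) (Fin 3) F)) hc
      simp only [Units.val_mul, mul_assoc, Units.inv_mul, mul_one, Matrix.smul_mul, one_mul] at this
      exact this
    have h00 := congrFun (congrFun h1 0) 0
    rcases hb with rfl | rfl
    · simp [D, P, heisD, heisP, Matrix.GeneralLinearGroup.mkOfDetNeZero] at h00
      exact c.ne_zero h00.symm
    · simp [pow_two, D, P, heisD, heisP, Matrix.GeneralLinearGroup.mkOfDetNeZero, Matrix.mul_apply,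
        Fin.sum_univ_three] at h00
      exact c.ne_zero h00.symm
  · intro x
    have hx : (x : F) ^ 3 = 1 := by
      have := FiniteField.pow_card_sub_one_eq_one (x : F) x.ne_zero
      rwa [hF] at this
    have : ((x : F) - 1) * ((x : F) - w) * ((x : F) - w * w) = 0 := by
      linear_combination hx + (-(x : F) * x + x * w) * hs - h3
    rcases mul_eq_zero.1 this with h | h
    · rcases mul_eq_zero.1 h with h | h
      · exact Or.inl (Units.ext (sub_eq_zero.1 h))
      · exact Or.inr (Or.inl (Units.ext (sub_eq_zero.1 h)))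
    · exact Or.inr (Or.inr (Units.ext (sub_eq_zero.1 h)))
  · set A := Algebra.adjoin F {((D : GL (Fin 3) F) : Matrix (Fin 3) (Fin 3) F),
      ((P : GL (Fin 3) F) : Matrix (Fin 3) (Fin 3) F)}
    have hD' : heisD w ∈ A := Algebra.subset_adjoin (Or.inl rfl)
    have hP' : heisP F ∈ A := Algebra.subset_adjoin (Or.inr rfl)
    have hdiag : ∀ i : Fin 3, Matrix.single i i (1 : F) ∈ A := by
      intro i
      let a : Fin 3 → F := ![1, w * w, w]
      have h1 : (1 : Matrix (Fin 3) (Fin 3) F) + a i • heisD w + (a i * a i) • (heisD w * heisD w) =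
          Matrix.single i i 1 := by
        ext p r
        fin_cases i <;> fin_cases p <;> fin_cases r <;>
          simp [a, heisD, Matrix.one_apply]
        all_goals first
          | linear_combination hs
          | linear_combination hs + w * h3
          | linear_combination h2
          | linear_combination (1 + w * (w * w) + 1) * h3 + h2
          | linear_combination h2 + h3 + (1 + w * (w * w)) * h3
          | linear_combination hs + (w + w * w) * h3
          | linear_combination hs + (1 + w) * h3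
          | linear_combination hs + (w + w * (w * w) * w * w + w * w) * h3
      rw [← h1]
      exact add_mem (add_mem (one_mem A) (Subalgebra.smul_mem _ hD' _))
        (Subalgebra.smul_mem _ (mul_mem hD' hD') _)
    rw [eq_top_iff]
    rintro X -
    rw [Matrix.matrix_eq_sum_single X]
    refine sum_mem fun i _ => sum_mem fun j _ => ?_
    rw [show Matrix.single i j (X i j) = X i j • Matrix.single i j 1 by
      rw [Matrix.smul_single, smul_eq_mul, mul_one]]
    refine Subalgebra.smul_mem _ ?_ _
    have hones : (1 + heisP F + heisP F * heisP F : Matrix (Fin 3) (Fin 3) F) = Matrix.of fun _ _ => 1 := by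
      ext p r
      fin_cases p <;> fin_cases r <;> simp [heisP, Matrix.mul_apply, Fin.sum_univ_three, Matrix.one_apply]
    have h1 : Matrix.single i i (1 : F) * (1 + heisP F + heisP F * heisP F) * Matrix.single j j 1 =
        Matrix.single i j 1 := by
      rw [hones]
      ext p r
      by_cases hp : i = p <;> by_cases hr : j = r <;>
        simp [Matrix.mul_apply, Matrix.single_apply, hp, hr]
    rw [← h1]
    exact mul_mem (mul_mem (hdiag i) (add_mem (add_mem (one_mem A) hP') (mul_mem hP' hP'))) (hdiag j)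

namespace HeisData

variable {E : Subgroup (GL (Fin 3) F)} (d : HeisData E)

include d in
lemma span : Algebra.adjoin F (matrixSet E) = ⊤ := by
  rw [eq_top_iff, ← d.span₂]
  refine Algebra.adjoin_mono ?_
  rintro _ (rfl | rfl)
  · exact ⟨d.D, d.hD, rfl⟩
  · exact ⟨d.P, d.hP, rfl⟩

/-- Every element is a scalar times a monomial in the generators. -/
lemma exists_eq (hcomm : ∀ a ∈ E, ∀ b ∈ E, a * b * a⁻¹ * b⁻¹ ∈ scalars (Fin 3) F) {e : GL (Fin 3) F}
    (he : e ∈ E) : ∃ (z : GL (Fin 3) F) (b c : ℕ), z ∈ scalars (Fin 3) F ∧ b < 3 ∧ c < 3 ∧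
      e = z * (d.D ^ b * d.P ^ c) := by
  set w := scalarUnit (Fin 3) F d.w with hw
  have hwc : ∀ g : GL (Fin 3) F, Commute g w := fun g => scalarUnit_comm _ g
  have hroot : ∀ a ∈ E, ∀ g ∈ E, ∃ i : ℕ, i < 3 ∧ a * g = w ^ i * g * a := by
    intro a ha g hg
    obtain ⟨x, hx⟩ := mem_scalars_iff_scalarUnit.1 (hcomm a ha g hg)
    have h : a * g = scalarUnit (Fin 3) F x * g * a := by rw [hx]; group
    rcases d.cube_roots x with rfl | rfl | rfl
    · exact ⟨0, by norm_num, by rw [h, map_one, pow_zero]⟩
    · exact ⟨1, by norm_num, by rw [h, pow_one]⟩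
    · exact ⟨2, by norm_num, by rw [h, map_mul, pow_two]⟩
  have hw3 : w ^ 3 = 1 := by
    rw [hw, ← map_pow, pow_succ, pow_two, d.wcube, map_one]
  obtain ⟨i, hi, hei⟩ := hroot e he d.D d.hD
  obtain ⟨j, hj, hej⟩ := hroot e he d.P d.hP
  -- the monomial acting in the same way
  have hPD : ∀ c : ℕ, d.P ^ c * d.D = w ^ c * d.D * d.P ^ c := by
    intro c
    induction c with
    | zero => simp
    | succ c ih =>
      calc d.P ^ (c + 1) * d.D = d.P * (d.P ^ c * d.D) := by rw [pow_succ', mul_assoc]
        _ = w ^ c * (d.P * d.D) * d.P ^ c := by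
          rw [ih, ← mul_assoc, ← mul_assoc, ((hwc d.P).pow_right c).eq]; simp only [mul_assoc]
        _ = w ^ (c + 1) * d.D * d.P ^ (c + 1) := by
          rw [d.pd, pow_succ w, pow_succ' d.P]; simp only [mul_assoc]
          rfl
  have hDP : ∀ b : ℕ, d.D ^ b * d.P = w ^ (2 * b) * d.P * d.D ^ b := by
    intro b
    induction b with
    | zero => simp
    | succ b ih =>
      have h1 : d.D * d.P = w ^ 2 * d.P * d.D := by
        rw [mul_assoc (w ^ 2), d.pd, ← hw, ← mul_assoc, ← mul_assoc, ← pow_succ, hw3, one_mul]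
      calc d.D ^ (b + 1) * d.P = d.D * (d.D ^ b * d.P) := by rw [pow_succ', mul_assoc]
        _ = w ^ (2 * b) * (d.D * d.P) * d.D ^ b := by
          rw [ih, ← mul_assoc, ← mul_assoc, ((hwc d.D).pow_right (2 * b)).eq]; simp only [mul_assoc]
        _ = w ^ (2 * (b + 1)) * d.P * d.D ^ (b + 1) := by
          rw [h1, show 2 * (b + 1) = 2 * b + 2 by ring, pow_add, pow_succ' d.D]; simp only [mul_assoc]
  obtain ⟨b, hb, hbj⟩ : ∃ b : ℕ, b < 3 ∧ w ^ (2 * b) = w ^ j := by
    interval_cases j
    · exact ⟨0, by norm_num, rfl⟩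
    · refine ⟨2, by norm_num, ?_⟩
      rw [show 2 * 2 = 3 + 1 from rfl, pow_add, hw3, one_mul]
    · exact ⟨1, by norm_num, rfl⟩
  set f := d.D ^ b * d.P ^ i with hf
  have hfD : f * d.D = w ^ i * d.D * f := by
    calc f * d.D = d.D ^ b * (w ^ i * d.D * d.P ^ i) := by rw [hf, mul_assoc, hPD]
      _ = w ^ i * (d.D ^ b * d.D) * d.P ^ i := by
        rw [← mul_assoc, ← mul_assoc, ((hwc _).pow_right i).eq]; simp only [mul_assoc]
      _ = w ^ i * d.D * f := by rw [← pow_succ, pow_succ', hf]; simp only [mul_assoc]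
  have hfP : f * d.P = w ^ j * d.P * f := by
    calc f * d.P = d.D ^ b * d.P * d.P ^ i := by rw [hf, mul_assoc, ← pow_succ, pow_succ', ← mul_assoc]
      _ = w ^ j * d.P * f := by rw [hDP, hbj, hf]; simp only [mul_assoc]
  have hz : e * f⁻¹ ∈ scalars (Fin 3) F := by
    have key : ∀ g z : GL (Fin 3) F, (∀ h, Commute h z) → e * g = z * g * e → f * g = z * g * f →
        e * f⁻¹ * g = g * (e * f⁻¹) := by
      intro g z hzc heg hfg
      apply mul_left_cancel (a := z)
      calc z * (e * f⁻¹ * g) = e * f⁻¹ * (z * g) := by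
            rw [← mul_assoc, ← (hzc (e * f⁻¹)).eq, mul_assoc]
        _ = e * f⁻¹ * (f * g * f⁻¹) := by rw [hfg, mul_inv_cancel_right]
        _ = e * g * f⁻¹ := by group
        _ = z * (g * (e * f⁻¹)) := by rw [heg]; group
    have hcD := key d.D (w ^ i) (fun h => (hwc h).pow_right i) hei hfD
    have hcP := key d.P (w ^ j) (fun h => (hwc h).pow_right j) hej hfP
    obtain ⟨c, hc⟩ := (absIrred_of_adjoin_eq_top d.span₂).2
      ((e * f⁻¹ : GL (Fin 3) F) : Matrix (Fin 3) (Fin 3) F) (by
        rintro _ (rfl | rfl)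
        · exact congrArg Units.val hcD
        · exact congrArg Units.val hcP)
    exact mem_scalars_of_eq_smul _ c hc
  exact ⟨e * f⁻¹, b, i, hz, hb, hi, by rw [inv_mul_cancel_right]⟩

end HeisData

end Cfsg.Agent.Aschbacher
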