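/-
Tensor power decompositions of the unitary form.
-/
import Mathlib
import Cfsg.Agent.Aschbacher.Un.Coordinates
import Cfsg.Agent.Aschbacher.Un.Subfield

set_option autoImplicit false
set_option linter.style.haveILetI false

namespace Cfsg.Agent.Aschbacher

open Matrix
open Cfsg.Geo

variable {F : Type*} [Field F] [Fintype F] {n q : ℕ} (hF : Fintype.card F = q ^ 2)
  {H : Subgroup (GL (Fin n) F)}

section Span

variable {k t : ℕ}

omit [Fintype F] in
/-- A subalgebra containing every slot is everything. -/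
lemma eq_top_of_slots (A : Subalgebra F (Matrix (Fin t → Fin k) (Fin t → Fin k) F))
    (h : ∀ i x, slotHom i x ∈ A) : A = ⊤ := by
  classical
  have hpure : ∀ (s : Finset (Fin t)) (x : Fin t → Matrix (Fin k) (Fin k) F),
      pureTensor (fun i => if i ∈ s then x i else 1) ∈ A := by
    intro s x
    induction s using Finset.induction_on with
    | empty =>
      rw [show (fun i => if i ∈ (∅ : Finset (Fin t)) then x i else 1) = 1 from funext fun i => by simp,
        map_one]
      exact one_mem A
    | insert a s ha ih =>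
      rw [show (fun i => if i ∈ insert a s then x i else 1) =
          Pi.mulSingle a (x a) * (fun i => if i ∈ s then x i else 1) from funext fun i => by
        rw [Pi.mul_apply]
        by_cases hi : i = a
        · subst hi; simp [ha]
        · simp [hi, Pi.mulSingle_eq_of_ne hi], map_mul, ← slotHom_apply]
      exact mul_mem (h a _) ih
  rw [eq_top_iff]
  rintro M -
  rw [Matrix.matrix_eq_sum_single M]
  refine sum_mem fun f _ => sum_mem fun g _ => ?_
  rw [show Matrix.single f g (M f g) = M f g • Matrix.single f g 1 by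
    rw [Matrix.smul_single, smul_eq_mul, mul_one], ← pureTensor_single]
  refine Subalgebra.smul_mem _ ?_ _
  have := hpure Finset.univ (fun i => Matrix.single (f i) (g i) 1)
  simpa using this

omit [Fintype F] in
/-- Pure tensors of a spanning set span. -/
lemma adjoin_pureTensor_eq_top (S : Subgroup (GL (Fin k) F))
    (hS : Algebra.adjoin F (matrixSet S) = ⊤) :
    Algebra.adjoin F (matrixSet ((Subgroup.pi Set.univ fun _ : Fin t => S).map pureUnit)) = ⊤ := by
  classical
  set A := Algebra.adjoin F (matrixSet ((Subgroup.pi Set.univ fun _ : Fin t => S).map pureUnit))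
  refine eq_top_of_slots A fun i x => ?_
  have hx : x ∈ A.comap (slotHom i) := by
    have hle : Algebra.adjoin F (matrixSet S) ≤ A.comap (slotHom i) := by
      refine Algebra.adjoin_le ?_
      rintro _ ⟨s, hs, rfl⟩
      refine Algebra.subset_adjoin ⟨pureUnit (Pi.mulSingle i s), Subgroup.mem_map_of_mem _ ?_, ?_⟩
      · rw [Subgroup.mem_pi]
        intro j _
        by_cases hj : j = i
        · subst hj; simpa using hs
        · simp [Pi.mulSingle_eq_of_ne hj, one_mem]
      · show ((pureUnit (Pi.mulSingle i s) : GL _ F) : Matrix (Fin t → Fin k) (Fin t → Fin k) F) =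
          slotHom i (s : Matrix (Fin k) (Fin k) F)
        rw [pureUnit_coe, slotHom_apply]
        congr 1
        funext j
        by_cases hj : j = i
        · subst hj; simp
        · simp [Pi.mulSingle_eq_of_ne hj]
    rw [hS] at hle
    exact hle Algebra.mem_top
  exact hx

omit [Fintype F] in
/-- A group that spans in coordinates spans. -/
lemma adjoin_conj_eq_top {κ : Type} [Fintype κ] [DecidableEq κ] (e : Fin n ≃ κ) (P : GL (Fin n) F)
    (L : Subgroup (GL κ F)) (hL : Algebra.adjoin F (matrixSet L) = ⊤) :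
    Algebra.adjoin F (matrixSet ((L.map (glReindex e.symm).toMonoidHom).map
      (MulAut.conj P).toMonoidHom)) = ⊤ := by
  let Ψ : Matrix κ κ F ≃ₐ[F] Matrix (Fin n) (Fin n) F :=
    (Matrix.reindexAlgEquiv F F e.symm).trans (conjMat P)
  have h : matrixSet ((L.map (glReindex e.symm).toMonoidHom).map (MulAut.conj P).toMonoidHom) =
      Ψ.toAlgHom '' matrixSet L := by
    simp only [matrixSet, Subgroup.coe_map, Set.image_image]
    refine Set.image_congr fun g _ => ?_
    show _ = conjMat P (Matrix.reindexAlgEquiv F F e.symm (g : Matrix κ κ F))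
    rw [conjMat_apply]
    rfl
  rw [h, Algebra.adjoin_image, hL, Algebra.map_top]
  exact AlgHom.range_eq_top _ |>.2 Ψ.surjective

end Span

include hF in
/-- The determinant one isometries of the plane span all matrices. -/
lemma adjoin_SU_two : Algebra.adjoin F (matrixSet (Cfsg.GU 2 F q ⊓ specialLinear (Fin 2) F)) = ⊤ := by
  classical
  have hq := Forms.HermStd.one_lt_q hF
  obtain ⟨g, hg⟩ := IsCyclic.exists_generator (α := Fˣ)
  have hord : orderOf g = q ^ 2 - 1 := by
    rw [orderOf_eq_card_of_forall_mem_zpowers hg, Nat.card_units, Nat.card_eq_fintype_card, hF]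
  set u := g ^ (q - 1) with hu
  have hsq : q ^ 2 - 1 = (q + 1) * (q - 1) := by
    rw [← Nat.sq_sub_sq q 1, one_pow]
  have hu1 : u ^ (q + 1) = 1 := by
    rw [hu, ← pow_mul, mul_comm, ← hsq, ← hord, pow_orderOf_eq_one]
  have hu2 : u ^ 2 ≠ 1 := by
    intro h
    rw [hu, ← pow_mul] at h
    have h1 := Nat.le_of_dvd (by omega) (orderOf_dvd_of_pow_eq_one h)
    rw [hord, hsq] at h1
    have := Nat.le_of_mul_le_mul_right (mul_comm (q - 1) 2 ▸ h1) (by omega)
    omega
  set a : F := (u : F) with ha
  have hab : a * a ^ q = 1 := by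
    rw [← pow_succ', ha, ← Units.val_pow_eq_pow_val, hu1, Units.val_one]
  have hne : a - a ^ q ≠ 0 := by
    intro h
    rw [sub_eq_zero] at h
    apply hu2
    apply Units.ext
    rw [Units.val_pow_eq_pow_val, Units.val_one, sq]
    nth_rw 2 [← ha]
    rw [← ha]
    calc a * a = a * a ^ q := by rw [← h]
      _ = 1 := hab
  set A := Algebra.adjoin F (matrixSet (Cfsg.GU 2 F q ⊓ specialLinear (Fin 2) F))
  have hmem : ∀ M : Matrix (Fin 2) (Fin 2) F, M.det = 1 → Mᵀ * M.map (qAut hF) = 1 → M ∈ A := by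
    intro M hd hM
    refine Algebra.subset_adjoin ⟨Matrix.GeneralLinearGroup.mkOfDetNeZero M (by rw [hd]; exact one_ne_zero),
      ⟨(mem_GU_matrix hF).2 hM, Units.ext ?_⟩, rfl⟩
    show M.det = 1
    exact hd
  have hdiag : !![a, 0; 0, a ^ q] ∈ A := hmem _ (by simp [Matrix.det_fin_two, hab]) (by
    have hqa : qAut hF a = a ^ q := rfl
    have hqq : qAut hF (a ^ q) = a := by rw [← hqa, qAut_qAut]
    ext i j
    fin_cases i <;> fin_cases j <;>
      simp [Matrix.mul_apply, Fin.sum_univ_two, hqa, hqq, hab, mul_comm (a ^ q) a])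
  have hJ : altTwo F ∈ A := hmem _ (by simp [altTwo, Matrix.det_fin_two]) (by
    ext i j
    fin_cases i <;> fin_cases j <;>
      simp [altTwo, Matrix.mul_apply, Fin.sum_univ_two, map_neg])
  have h00 : Matrix.single (0 : Fin 2) (0 : Fin 2) (1 : F) ∈ A := by
    have h1 : (a - a ^ q)⁻¹ • (!![a, 0; 0, a ^ q] - a ^ q • (1 : Matrix (Fin 2) (Fin 2) F)) =
        Matrix.single (0 : Fin 2) (0 : Fin 2) (1 : F) := by
      ext i j
      fin_cases i <;> fin_cases j <;> simp [Matrix.one_apply, hne]
    rw [← h1]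
    exact Subalgebra.smul_mem _ (sub_mem hdiag (Subalgebra.smul_mem _ (one_mem A) _)) _
  have h11 : Matrix.single (1 : Fin 2) (1 : Fin 2) (1 : F) ∈ A := by
    have h1 : (1 : Matrix (Fin 2) (Fin 2) F) - Matrix.single (0 : Fin 2) (0 : Fin 2) (1 : F) =
        Matrix.single (1 : Fin 2) (1 : Fin 2) (1 : F) := by
      ext i j
      fin_cases i <;> fin_cases j <;> simp [Matrix.one_apply]
    rw [← h1]
    exact sub_mem (one_mem A) h00
  have h01 : Matrix.single (0 : Fin 2) (1 : Fin 2) (1 : F) ∈ A := by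
    have h1 : Matrix.single (0 : Fin 2) (0 : Fin 2) (1 : F) * altTwo F =
        Matrix.single (0 : Fin 2) (1 : Fin 2) (1 : F) := by
      ext i j
      fin_cases i <;> fin_cases j <;> simp [altTwo, Matrix.mul_apply, Fin.sum_univ_two]
    rw [← h1]
    exact mul_mem h00 hJ
  have h10 : Matrix.single (1 : Fin 2) (0 : Fin 2) (1 : F) ∈ A := by
    have h1 : -(Matrix.single (1 : Fin 2) (1 : Fin 2) (1 : F) * altTwo F) =
        Matrix.single (1 : Fin 2) (0 : Fin 2) (1 : F) := by
      ext i j
      fin_cases i <;> fin_cases j <;> simp [altTwo, Matrix.mul_apply, Fin.sum_univ_two]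
    rw [← h1]
    exact neg_mem (mul_mem h11 hJ)
  rw [eq_top_iff]
  rintro M -
  rw [Matrix.matrix_eq_sum_single M]
  refine sum_mem fun i _ => sum_mem fun j _ => ?_
  rw [show Matrix.single i j (M i j) = M i j • Matrix.single i j 1 by
    rw [Matrix.smul_single, smul_eq_mul, mul_one]]
  refine Subalgebra.smul_mem _ ?_ _
  fin_cases i <;> fin_cases j
  exacts [h00, h01, h10, h11]

include hF in
/-- A power of planes in orthonormal coordinates puts the group in a subfield member. -/
theorem inUnClass_of_orth_two [NeZero n] (hn : 2 ≤ n) (hH : H ≤ Cfsg.GU n F q) (hirr : Irred H) {t : ℕ}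
    (e : Fin n ≃ (Fin t → Fin 2)) (P : GL (Fin n) F) {c : F} (hc : c ≠ 0)
    (hpull : (hermData n hF).pull e P = c • 1) (hle : H ≤ tensorWreathSubgroup 2 t e P) :
    InUnClass q H := by
  classical
  haveI : Nonempty (Fin n) := ⟨⟨0, by omega⟩⟩
  set S : Subgroup (GL (Fin 2) F) := Cfsg.GU 2 F q ⊓ specialLinear (Fin 2) F with hS
  have hSmem : ∀ s : GL (Fin 2) F, s ∈ S ↔
      (s : Matrix (Fin 2) (Fin 2) F)ᵀ * (s : Matrix (Fin 2) (Fin 2) F).map (qAut hF) = 1 ∧
        (s : Matrix (Fin 2) (Fin 2) F).det = 1 := fun s => by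
    rw [hS, Subgroup.mem_inf, mem_GU_matrix hF, specialLinear, MonoidHom.mem_ker, Units.ext_iff]
    rfl
  set L := (Subgroup.pi Set.univ fun _ : Fin t => S).map pureUnit with hL
  set Q := (L.map (glReindex e.symm).toMonoidHom).map (MulAut.conj P).toMonoidHom with hQ
  have habs : ActsAbsolutelyIrreducibly (matrixSet Q) := absIrred_of_adjoin_eq_top
    (adjoin_conj_eq_top e P L (adjoin_pureTensor_eq_top S (adjoin_SU_two hF)))
  have hQcoord : ∀ x ∈ Q, ∃ s : Fin t → GL (Fin 2) F, (∀ i, s i ∈ S) ∧ glCoord e P x = pureUnit s ∧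
      x = (MulAut.conj P) (glReindex e.symm (pureUnit s)) := by
    rintro _ ⟨_, ⟨_, ⟨s, hs, rfl⟩, rfl⟩, rfl⟩
    exact ⟨s, fun i => hs i (Set.mem_univ i), glCoord_of_reindex e P _, rfl⟩
  have hQGU : Q ≤ Cfsg.GU n F q := by
    intro x hx
    obtain ⟨s, hs, hxs, -⟩ := hQcoord x hx
    refine (mem_GU hF).2 ((hermData n hF).isometry_of_pull e P x ?_)
    rw [hpull, hxs, pureUnit_coe, hermData_τ, Matrix.mul_smul, mul_one, Matrix.smul_mul,
      show (pureTensor fun i => (s i : Matrix (Fin 2) (Fin 2) F)).map (qAut hF) =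
        pureTensor (fun i => (s i : Matrix (Fin 2) (Fin 2) F).map (qAut hF)) from
          pureTensor_map (qAut hF).toRingHom _, pureTensor_transpose, ← map_mul]
    congr 1
    rw [show ((fun i => (s i : Matrix (Fin 2) (Fin 2) F)ᵀ) * fun i =>
      (s i : Matrix (Fin 2) (Fin 2) F).map (qAut hF)) = 1 from funext fun i => ((hSmem _).1 (hs i)).1, map_one]
  have hpull' : (hermData n hF).pull e P = c • pureTensor (fun _ : Fin t => (1 : Matrix (Fin 2) (Fin 2) F)) := by
    rw [hpull]; congr 1; exact (map_one pureTensor).symm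
  have hnorm : ∀ g ∈ H, ∀ x ∈ Q, g * x * g⁻¹ ∈ Q := by
    intro g hg x hx
    obtain ⟨s, hs, hxs, hxeq⟩ := hQcoord x hx
    obtain ⟨σ, gs, hgs, hd⟩ := exists_mon_similitudes hF hc one_ne_zero hpull' hH hle hg
    let s' : Fin t → GL (Fin 2) F := fun i => gs i * s (σ i) * (gs i)⁻¹
    have hs' : ∀ i, s' i ∈ S := by
      intro i
      obtain ⟨d, hd⟩ := hd i
      rw [mul_one] at hd
      obtain ⟨h1, h2⟩ := (hSmem _).1 (hs (σ i))
      refine (hSmem _).2 ⟨?_, ?_⟩
      · set A := (gs i : Matrix (Fin 2) (Fin 2) F)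
        set B := (((gs i)⁻¹ : GL (Fin 2) F) : Matrix (Fin 2) (Fin 2) F)
        set C := (s (σ i) : Matrix (Fin 2) (Fin 2) F)
        show (A * C * B)ᵀ * (A * C * B).map (qAut hF) = 1
        have hAB : A * B = 1 := Units.mul_inv _
        calc (A * C * B)ᵀ * (A * C * B).map (qAut hF)
            = Bᵀ * (Cᵀ * (Aᵀ * A.map (qAut hF)) * C.map (qAut hF)) * B.map (qAut hF) := by
              rw [Matrix.transpose_mul, Matrix.transpose_mul, Matrix.map_mul, Matrix.map_mul]
              simp only [mul_assoc]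
          _ = Bᵀ * (Aᵀ * A.map (qAut hF)) * B.map (qAut hF) := by
              rw [hd, Matrix.mul_smul, Matrix.smul_mul, mul_one, h1]
          _ = (A * B)ᵀ * (A * B).map (qAut hF) := by
              rw [Matrix.transpose_mul, Matrix.map_mul]
              simp only [mul_assoc]
          _ = 1 := by rw [hAB, Matrix.transpose_one, Matrix.map_one _ (map_zero _) (map_one _), one_mul]
      · show ((gs i : Matrix (Fin 2) (Fin 2) F) * (s (σ i) : Matrix (Fin 2) (Fin 2) F) *
          (((gs i)⁻¹ : GL (Fin 2) F) : Matrix (Fin 2) (Fin 2) F)).det = 1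
        rw [Matrix.det_mul, Matrix.det_mul, h2, mul_one, ← Matrix.det_mul, Units.mul_inv, Matrix.det_one]
    have hco : glCoord e P g * pureUnit s = pureUnit s' * glCoord e P g := by
      apply Units.ext
      rw [Units.val_mul, Units.val_mul, hgs, pureUnit_coe, pureUnit_coe, monTensor_mul_pure]
      rfl
    have hgx : g * x * g⁻¹ = (MulAut.conj P) (glReindex e.symm (pureUnit s')) := by
      rw [← conj_glReindex_glCoord e P g, hxeq, ← map_mul, ← map_mul, hco, map_mul, map_mul,
        mul_inv_cancel_right]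
    rw [hgx]
    exact Subgroup.mem_map_of_mem _ (Subgroup.mem_map_of_mem _ (Subgroup.mem_map_of_mem _
      (fun i _ => hs' i)))
  -- the bilinear form
  set J := pureTensor (fun _ : Fin t => altTwo F) with hJ
  have hJu : IsUnit J.det := by
    rw [← Matrix.isUnit_iff_isUnit_det]
    have hA : IsUnit (altTwo F) := by
      rw [Matrix.isUnit_iff_isUnit_det]
      simp [altTwo, Matrix.det_fin_two]
    exact (show IsUnit (fun _ : Fin t => altTwo F) from Pi.isUnit_iff.2 fun _ => hA).map pureTensor
  set Pi' : Matrix (Fin n) (Fin n) F := ((P⁻¹ : GL (Fin n) F) : Matrix (Fin n) (Fin n) F) with hPi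
  set T := Pi'ᵀ * J.submatrix e e * Pi' with hT
  have hTu : IsUnit T.det := by
    rw [hT, Matrix.det_mul, Matrix.det_mul, Matrix.det_transpose, Matrix.det_submatrix_equiv_self]
    exact ((Matrix.GeneralLinearGroup.det P⁻¹).isUnit.mul hJu).mul
      (Matrix.GeneralLinearGroup.det P⁻¹).isUnit
  have hfixT : Fixes (RingHom.id F) Q T := by
    intro x hx
    obtain ⟨s, hs, -, rfl⟩ := hQcoord x hx
    set X := (pureUnit s : Matrix (Fin t → Fin 2) (Fin t → Fin 2) F) with hX
    have hXJ : Xᵀ * J * X = J := by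
      rw [hX, pureUnit_coe, hJ, pureTensor_transpose, ← map_mul, ← map_mul]
      congr 1
      funext i
      show (s i : Matrix (Fin 2) (Fin 2) F)ᵀ * altTwo F * (s i : Matrix (Fin 2) (Fin 2) F) = altTwo F
      rw [altTwo_congr, ((hSmem _).1 (hs i)).2, one_smul]
    have hPx : Pi' * ((MulAut.conj P) (glReindex e.symm (pureUnit s)) : GL (Fin n) F).val =
        X.submatrix e e * Pi' := by
      rw [MulAut.conj_apply, Units.val_mul, Units.val_mul, ← mul_assoc, ← mul_assoc, hPi, Units.inv_mul,
        one_mul, coe_glReindex]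
      rfl
    rw [RingHom.coe_id, Matrix.map_id]
    calc _ = (Pi' * ((MulAut.conj P) (glReindex e.symm (pureUnit s)) : GL (Fin n) F).val)ᵀ *
          J.submatrix e e * (Pi' * ((MulAut.conj P) (glReindex e.symm (pureUnit s)) : GL (Fin n) F).val) := by
          rw [hT, Matrix.transpose_mul]; simp only [mul_assoc]
      _ = Pi'ᵀ * (Xᵀ * J * X).submatrix e e * Pi' := by
          rw [hPx, Matrix.transpose_mul, Matrix.transpose_submatrix, ← Matrix.submatrix_mul_equiv _ _ _ e,
            ← Matrix.submatrix_mul_equiv _ _ _ e]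
          simp only [mul_assoc]
      _ = T := by rw [hXJ]
  have hfixD : Fixes (qAut hF).toRingHom Q (hermData n hF).T :=
    (fixesForm_iff _ Q _).1 (by rintro _ ⟨s, hs, rfl⟩ u v; exact (mem_GU hF).1 (hQGU hs) u v)
  obtain ⟨a₀, ha₀⟩ := exists_qAut_ne hF
  obtain ⟨F₀, hne, hreal⟩ := exists_realisable_of_two_forms (qAut hF).toRingHom (qAut_qAut hF) ha₀ habs
    hTu (hermData n hF).isUnit hfixT hfixD
  refine inUnClass_of_realisable hF hn hH hirr habs hnorm (fun s hs => ⟨1, one_mem _, ?_⟩) hne hreal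
  rw [one_smul]
  exact hfixD s hs

include hF in
/-- A tensor power decomposition of the form puts an irreducible group in a member. -/
theorem inUnClass_of_power [NeZero n] (hn : 2 ≤ n) (hH : H ≤ Cfsg.GU n F q) (hirr : Irred H) {t k : ℕ}
    (ht : 2 ≤ t) (hk : 2 ≤ k) (h23 : ¬ (q = 2 ∧ k = 3)) (e : Fin n ≃ (Fin t → Fin k))
    (P : GL (Fin n) F) {G : Matrix (Fin k) (Fin k) F} (hG : IsUnit G.det)
    (hherm : (G.map (qAut hF))ᵀ = G) {c : F} (hc : c ≠ 0)
    (hpull : (hermData n hF).pull e P = c • pureTensor (fun _ => G))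
    (hle : H ≤ tensorWreathSubgroup k t e P) : InUnClass q H := by
  classical
  rcases Nat.lt_or_ge k 3 with hk3 | hk3
  · obtain rfl : k = 2 := by omega
    obtain ⟨X, hX⟩ := exists_orth hF hG hherm
    set U := pureUnit (fun _ : Fin t => X) with hU
    refine inUnClass_of_orth_two hF hn hH hirr e (P * glReindex e.symm U) hc ?_ (hle.trans ?_)
    · rw [FormData.pull_change, hpull, hU, pureUnit_coe, hermData_τ,
        show (pureTensor fun _ : Fin t => (X : Matrix (Fin 2) (Fin 2) F)).map (qAut hF) =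
          pureTensor (fun _ => (X : Matrix (Fin 2) (Fin 2) F).map (qAut hF)) from
            pureTensor_map (qAut hF).toRingHom _, pureTensor_transpose, Matrix.mul_smul, Matrix.smul_mul,
        ← map_mul, ← map_mul]
      congr 1
      rw [show ((fun _ : Fin t => (X : Matrix (Fin 2) (Fin 2) F)ᵀ) * fun _ => G) *
        (fun _ => (X : Matrix (Fin 2) (Fin 2) F).map (qAut hF)) = 1 from funext fun _ => hX, map_one]
    · exact map_conj_change _ (pureUnit_mem _) e P
  · refine ⟨_, Or.inr (Or.inr (Or.inr (Or.inr (Or.inr (Or.inr (Or.inr (Or.inr (Or.inr (Or.inr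
      ⟨k, t, e, P, sesqForm (qAut hF).toRingHom G, hk3, ht, h23, isUnitaryFormPow_sesqForm hF hG hherm,
        ⟨c, hc, fun x y => ?_⟩, rfl⟩))))))))), hle⟩
    rw [← hermData_form hF, (hermData n hF).form_pull e P x y, hpull, hermData_τ,
      Matrix.smul_mulVec, dotProduct_smul, smul_eq_mul]
    congr 1
    have hgram : gramMatrix (sesqForm (qAut hF).toRingHom G) = G :=
      Matrix.ext fun a b => sesqForm_single _ G a b
    rw [hgram]
    simp [dotProduct, Matrix.mulVec, Finset.mul_sum, mul_assoc, pureTensor_apply, qAut_apply]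

end Cfsg.Agent.Aschbacher
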