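/-
Tensor powers of three-dimensional unitary spaces over the field with four elements.
-/
import Mathlib
import Cfsg.Agent.Aschbacher.Un.Heisenberg
import Cfsg.Agent.Aschbacher.Un.Power
import Cfsg.Agent.Aschbacher.Factors

set_option autoImplicit false
set_option linter.style.haveILetI false

namespace Cfsg.Agent.Aschbacher

open Matrix
open Cfsg.Geo

variable {F : Type*} [Field F]

/-- A monomial tensor as an element of GL. -/
def permUnit {k t : ℕ} (σ : Equiv.Perm (Fin t)) : GL (Fin t → Fin k) F where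
  val := monTensor σ 1
  inv := monTensor σ⁻¹ 1
  val_inv := by
    rw [monTensor_mul, ← monTensor_one]
    congr 1
    · exact Equiv.ext fun i => by simp
    · funext i; simp
  inv_val := by
    rw [monTensor_mul, ← monTensor_one]
    congr 1
    · exact Equiv.ext fun i => by simp
    · funext i; simp

lemma permUnit_coe {k t : ℕ} (σ : Equiv.Perm (Fin t)) :
    ((permUnit σ : GL (Fin t → Fin k) F) : Matrix (Fin t → Fin k) (Fin t → Fin k) F) =
      monTensor σ (fun _ => ((1 : GL (Fin k) F) : Matrix (Fin k) (Fin k) F)) := rfl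

/-- In a finite group one inclusion suffices for normalising. -/
lemma mem_normalizer_of_map_le {G : Type*} [Group G] [Finite G] {N : Subgroup G} {g : G}
    (h : ∀ x ∈ N, g * x * g⁻¹ ∈ N) : g ∈ Subgroup.normalizer (N : Set G) := by
  have hpow : ∀ (k : ℕ), ∀ x ∈ N, g ^ k * x * (g ^ k)⁻¹ ∈ N := by
    intro k
    induction k with
    | zero => intro x hx; simpa using hx
    | succ k ih =>
      intro x hx
      rw [pow_succ', show g * g ^ k * x * (g * g ^ k)⁻¹ = g * (g ^ k * x * (g ^ k)⁻¹) * g⁻¹ by group]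
      exact h _ (ih x hx)
  have hinv : ∀ x ∈ N, g⁻¹ * x * g ∈ N := by
    intro x hx
    have h1 := hpow (orderOf g - 1) x hx
    have h2 : g ^ (orderOf g - 1) = g⁻¹ := by
      rw [eq_inv_iff_mul_eq_one, ← pow_succ, Nat.sub_add_cancel (orderOf_pos g), pow_orderOf_eq_one]
    rwa [h2, inv_inv] at h1
  rw [Subgroup.mem_normalizer_iff]
  exact fun x => ⟨fun hx => h x hx, fun hx => by simpa [mul_assoc] using hinv _ hx⟩

variable [Fintype F]

lemma sq_twist {E : Subgroup (GL (Fin 3) F)} (d : HeisData E) :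
    (d.D * d.D * d.P) ^ 2 * (d.P ^ 2)⁻¹ = d.D ^ 1 * scalarUnit (Fin 3) F (d.w * d.w) := by
  set w := scalarUnit (Fin 3) F d.w with hw
  have hc : ∀ g : GL (Fin 3) F, g * w = w * g := fun g => scalarUnit_comm _ g
  have h1 : d.P * d.D * d.P⁻¹ = w * d.D := by rw [d.pd, mul_inv_cancel_right]
  calc (d.D * d.D * d.P) ^ 2 * (d.P ^ 2)⁻¹ = d.D * d.D * ((d.P * d.D * d.P⁻¹) * (d.P * d.D * d.P⁻¹)) := by
        rw [pow_two, pow_two]; group
    _ = d.D ^ 3 * d.D ^ 1 * (w * w) := by
        rw [h1, pow_succ, pow_two, pow_one]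
        simp only [mul_assoc]
        rw [← mul_assoc d.D w d.D, hc d.D]
        simp only [← mul_assoc, hc]
    _ = _ := by rw [d.dcube, one_mul, map_mul]

variable {n : ℕ} {H : Subgroup (GL (Fin n) F)}

/-- A group preserving a tensor power of three-dimensional unitary spaces over four elements normalises
a group of symplectic type. -/
theorem inUnClass_of_orth_three (hF : Fintype.card F = 2 ^ 2) (hn : 2 ≤ n) (hH : H ≤ Cfsg.GU n F 2)
    {t : ℕ} (e : Fin n ≃ (Fin t → Fin 3)) (P : GL (Fin n) F) {c : F} (hc : c ≠ 0)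
    (hpull : (hermData n hF).pull e P = c • 1) (hle : H ≤ tensorWreathSubgroup 3 t e P) :
    InUnClass 2 H := by
  classical
  haveI : Nonempty (Fin n) := ⟨⟨0, by omega⟩⟩
  obtain ⟨E, hE, hEcomm, hEcube, hEconj⟩ := exists_heis_subgroup hF
  obtain ⟨d⟩ := exists_heisData hF hE
  set Z := scalars (Fin n) F with hZ
  let ψ : (Fin t → GL (Fin 3) F) →* GL (Fin n) F :=
    ((MulAut.conj P).toMonoidHom.comp (glReindex e.symm).toMonoidHom).comp pureUnit
  have hψapp : ∀ s, ψ s = (MulAut.conj P) (glReindex e.symm (pureUnit s)) := fun s => rfl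
  have hψscal : ∀ s : Fin t → GL (Fin 3) F, (∀ i, s i ∈ scalars (Fin 3) F) → ψ s ∈ Z := by
    intro s hs
    choose a ha using fun i => (Cfsg.Geo.mem_scalars_iff _).1 (hs i)
    refine mem_scalars_of_eq_smul _ (∏ i, (a i : F)) ?_
    have h1 : (pureUnit s : Matrix (Fin t → Fin 3) (Fin t → Fin 3) F) = (∏ i, (a i : F)) • 1 := by
      rw [pureUnit_coe, show (fun i => (s i : Matrix (Fin 3) (Fin 3) F)) =
        fun i => (a i : F) • (1 : Matrix (Fin 3) (Fin 3) F) from funext ha, pureTensor_smul]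
      congr 1
      exact map_one pureTensor
    rw [hψapp, MulAut.conj_apply, Units.val_mul, Units.val_mul, coe_glReindex, h1]
    rw [Matrix.submatrix_smul, Pi.smul_apply, Pi.smul_apply, Matrix.submatrix_one _ e.symm.symm.injective,
      Matrix.mul_smul, mul_one, Matrix.smul_mul, Units.mul_inv]
  set L := (Subgroup.pi Set.univ fun _ : Fin t => E).map ψ with hL
  set N := L ⊔ Z with hN
  have hZN : Z ≤ N := le_sup_right
  have hmemN : ∀ x ∈ N, ∃ s : Fin t → GL (Fin 3) F, (∀ i, s i ∈ E) ∧ ∃ z ∈ Z, x = ψ s * z := by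
    intro x hx
    obtain ⟨_, ⟨s, hs, rfl⟩, z, hz, rfl⟩ := Subgroup.mem_sup_of_normal_right.1 hx
    exact ⟨s, fun i => hs i (Set.mem_univ i), z, hz, rfl⟩
  have hψN : ∀ s : Fin t → GL (Fin 3) F, (∀ i, s i ∈ E) → ψ s ∈ N := fun s hs =>
    Subgroup.mem_sup_left (Subgroup.mem_map_of_mem _ fun i _ => hs i)
  have hNsim : N ≤ similarityGroup (Cfsg.hermForm n F 2) := by
    rw [← sim_eq hF]
    refine sup_le ?_ (hermData_scalars_le_sim hF)
    rintro _ ⟨s, hs, rfl⟩
    refine GU_le_sim hF ((mem_GU hF).2 ((hermData n hF).isometry_of_pull e P _ ?_))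
    rw [hψapp, glCoord_of_reindex, hpull, pureUnit_coe, hermData_τ, Matrix.mul_smul, mul_one, Matrix.smul_mul,
      show (pureTensor fun i => (s i : Matrix (Fin 3) (Fin 3) F)).map (qAut hF) =
        pureTensor (fun i => (s i : Matrix (Fin 3) (Fin 3) F).map (qAut hF)) from
          pureTensor_map (qAut hF).toRingHom _, pureTensor_transpose, ← map_mul]
    congr 1
    rw [show ((fun i => (s i : Matrix (Fin 3) (Fin 3) F)ᵀ) * fun i =>
      (s i : Matrix (Fin 3) (Fin 3) F).map (qAut hF)) = 1 from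
        funext fun i => (mem_GU_matrix hF).1 ((hE _).1 (hs i (Set.mem_univ i))).1, map_one]
  -- monomial elements normalise
  have hmonconj : ∀ (g : GL (Fin n) F) (σ : Equiv.Perm (Fin t)) (gs : Fin t → GL (Fin 3) F),
      (glCoord e P g : Matrix (Fin t → Fin 3) (Fin t → Fin 3) F) =
        monTensor σ (fun i => (gs i : Matrix (Fin 3) (Fin 3) F)) →
      ∀ s, g * ψ s * g⁻¹ = ψ (fun i => gs i * s (σ i) * (gs i)⁻¹) := by
    intro g σ gs hg s
    have hco : glCoord e P g * pureUnit s =
        pureUnit (fun i => gs i * s (σ i) * (gs i)⁻¹) * glCoord e P g := by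
      apply Units.ext
      rw [Units.val_mul, Units.val_mul, hg, pureUnit_coe, pureUnit_coe, monTensor_mul_pure]
      rfl
    rw [hψapp, hψapp, ← conj_glReindex_glCoord e P g, ← map_mul, ← map_mul, hco, map_mul, map_mul,
      mul_inv_cancel_right]
  set K := subgroupNormalizer N with hK
  have hmonK : ∀ (g : GL (Fin n) F) (σ : Equiv.Perm (Fin t)) (gs : Fin t → GL (Fin 3) F),
      (glCoord e P g : Matrix (Fin t → Fin 3) (Fin t → Fin 3) F) =
        monTensor σ (fun i => (gs i : Matrix (Fin 3) (Fin 3) F)) →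
      (∀ i, gs i ∈ Cfsg.GU 3 F 2) → g ∈ K := by
    intro g σ gs hg hgs
    refine mem_normalizer_of_map_le fun x hx => ?_
    obtain ⟨s, hs, z, hz, rfl⟩ := hmemN x hx
    rw [show g * (ψ s * z) * g⁻¹ = (g * ψ s * g⁻¹) * (g * z * g⁻¹) by group, hmonconj g σ gs hg]
    exact mul_mem (hψN _ fun i => hEconj _ (hgs i) _ (hs _))
      (hZN (Subgroup.Normal.conj_mem inferInstance _ hz g))
  have hpull' : (hermData n hF).pull e P =
      c • pureTensor (fun _ : Fin t => (1 : Matrix (Fin 3) (Fin 3) F)) := by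
    rw [hpull]; congr 1; exact (map_one pureTensor).symm
  have hHK : H ≤ K := by
    intro g hg
    obtain ⟨σ, gs, hgs, hsim⟩ := exists_mon_similitudes hF hc one_ne_zero hpull' hH hle hg
    refine hmonK g σ gs hgs fun i => (mem_GU_matrix hF).2 ?_
    obtain ⟨l, hl⟩ := hsim i
    rw [mul_one] at hl
    rw [hl]
    -- the multiplier is fixed by squaring
    have h1 := congrArg (fun X : Matrix (Fin 3) (Fin 3) F => (X.map (qAut hF))ᵀ) hl
    simp only [Matrix.map_mul, Matrix.transpose_mul, Matrix.map_map, Matrix.transpose_map,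
      Matrix.transpose_transpose] at h1
    rw [show (⇑(qAut hF) ∘ ⇑(qAut hF)) = id from funext (qAut_qAut hF), Matrix.map_id, hl,
      Matrix.map_smul' (qAut hF) l _ (map_mul _), Matrix.map_one _ (map_zero _) (map_one _),
      Matrix.transpose_smul, Matrix.transpose_one] at h1
    have h2 : l = l * l := by
      have := congrFun (congrFun h1 0) 0
      simpa [qAut_apply, sq] using this
    have hl0 : l ≠ 0 := by
      rintro rfl
      have h3 := congrArg Matrix.det hl
      rw [Matrix.det_mul, Matrix.det_transpose, zero_smul, Matrix.det_zero] at h3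
      rcases mul_eq_zero.1 h3 with h | h
      · exact (Matrix.GeneralLinearGroup.det (gs i)).ne_zero h
      · rw [show ((gs i : Matrix (Fin 3) (Fin 3) F).map (qAut hF)).det =
          qAut hF (gs i : Matrix (Fin 3) (Fin 3) F).det from (RingHom.map_det (qAut hF).toRingHom _).symm, map_eq_zero] at h
        exact (Matrix.GeneralLinearGroup.det (gs i)).ne_zero h
    rw [(mul_eq_right₀ hl0).1 h2.symm, one_smul]
  have hNK : ∀ g ∈ K, ∀ x ∈ N, g * x * g⁻¹ ∈ N := fun g hg x hx =>
    ((Subgroup.mem_normalizer_iff).1 hg x).1 hx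
  have htop : Algebra.adjoin F (matrixSet N) = ⊤ := by
    rw [hN, adjoin_sup_scalars, hL]
    have := adjoin_conj_eq_top e P _ (adjoin_pureTensor_eq_top (t := t) E d.span)
    rwa [Subgroup.map_map, Subgroup.map_map] at this
  have hcomm : ∀ x ∈ N, ∀ y ∈ N, x * y * x⁻¹ * y⁻¹ ∈ Z := by
    intro x hx y hy
    obtain ⟨s, hs, z, hz, rfl⟩ := hmemN x hx
    obtain ⟨s', hs', w, hw, rfl⟩ := hmemN y hy
    rw [← commutatorElement_def, show ψ s * z = z * ψ s from scalars_comm hz _,
      show ψ s' * w = w * ψ s' from scalars_comm hw _, commutator_central (scalars_comm hz) (scalars_comm hw),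
      commutatorElement_def,
      ← map_inv, ← map_inv, ← map_mul, ← map_mul, ← map_mul]
    exact hψscal _ fun i => hEcomm _ (hs i) _ (hs' i)
  have hpow : ∀ x ∈ N, x ^ 3 ∈ Z := by
    intro x hx
    obtain ⟨s, hs, z, hz, rfl⟩ := hmemN x hx
    rw [(show Commute (ψ s) z from scalars_comm hz _).mul_pow, ← map_pow]
    exact mul_mem (hψscal _ fun i => hEcube _ (hs i)) (pow_mem hz 3)
  have hmin : ∀ M : Subgroup (GL (Fin n) F), Z ≤ M → M ≤ N →
      (∀ g ∈ K, ∀ x ∈ M, g * x * g⁻¹ ∈ M) → M = Z ∨ M = N := by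
    intro M hZM hMN hMinv
    by_cases hMZ : M ≤ Z
    · exact Or.inl (le_antisymm hMZ hZM)
    refine Or.inr (le_antisymm hMN ?_)
    obtain ⟨x, hx, hxZ⟩ := SetLike.not_le_iff_exists.1 hMZ
    obtain ⟨s, hs, z, hz, rfl⟩ := hmemN x (hMN hx)
    have hsM : ψ s ∈ M := by simpa using mul_mem hx (inv_mem (hZM hz))
    obtain ⟨i, hi⟩ : ∃ i, s i ∉ scalars (Fin 3) F := by
      by_contra hall
      push Not at hall
      exact hxZ (mul_mem (hψscal s hall) hz)
    let φ : Fin t → (GL (Fin 3) F →* GL (Fin n) F) := fun j =>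
      ψ.comp (MonoidHom.mulSingle (fun _ : Fin t => GL (Fin 3) F) j)
    set Mi := M.comap (φ i) with hMi
    have hslotK : ∀ (j : Fin t), ∀ g ∈ Cfsg.GU 3 F 2, φ j g ∈ K := by
      intro j g hg
      refine hmonK _ 1 (Pi.mulSingle j g) ?_ fun l => ?_
      · rw [monTensor_one_left, ← pureUnit_coe]
        exact congrArg Units.val (glCoord_of_reindex e P _)
      · by_cases h : l = j
        · subst h; simpa using hg
        · simp [Pi.mulSingle_eq_of_ne h, one_mem]
    have hMiconj : ∀ g ∈ Cfsg.GU 3 F 2, ∀ a ∈ Mi, g * a * g⁻¹ ∈ Mi := by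
      intro g hg a ha
      rw [hMi, Subgroup.mem_comap, map_mul, map_mul, map_inv]
      exact hMinv _ (hslotK i g hg) _ ha
    have hMiscal : scalars (Fin 3) F ≤ Mi := by
      intro a ha
      refine hZM (hψscal _ fun l => ?_)
      by_cases h : l = i
      · subst h; simpa using ha
      · simp [MonoidHom.mulSingle_apply, Pi.mulSingle_eq_of_ne h, one_mem]
    -- commutators with a slot
    have hcommi : ∀ g ∈ Cfsg.GU 3 F 2, g * s i * g⁻¹ * (s i)⁻¹ ∈ Mi := by
      intro g hg
      rw [hMi, Subgroup.mem_comap]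
      have h1 : φ i (g * s i * g⁻¹ * (s i)⁻¹) = φ i g * ψ s * (φ i g)⁻¹ * (ψ s)⁻¹ := by
        show ψ (Pi.mulSingle i (g * s i * g⁻¹ * (s i)⁻¹)) = ψ (Pi.mulSingle i g) * ψ s * _ * _
        rw [show (φ i g : GL (Fin n) F)⁻¹ = ψ ((Pi.mulSingle i g : Fin t → GL (Fin 3) F)⁻¹) from
          (map_inv ψ _).symm, ← map_inv, ← map_mul, ← map_mul, ← map_mul]
        congr 1
        funext l
        by_cases h : l = i
        · subst h; simp
        · simp [Pi.mulSingle_eq_of_ne h]
      rw [h1]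
      exact mul_mem (hMinv _ (hslotK i g hg) _ hsM) (inv_mem hsM)
    -- one generator
    obtain ⟨z₀, b, k, hz₀, hb, hk, hsi⟩ := d.exists_eq hEcomm (hs i)
    have hcancel : ∀ g, g * s i * g⁻¹ * (s i)⁻¹ =
        g * (d.D ^ b * d.P ^ k) * g⁻¹ * (d.D ^ b * d.P ^ k)⁻¹ := by
      intro g
      set f := d.D ^ b * d.P ^ k
      have hzg : ∀ u : GL (Fin 3) F, u * z₀ = z₀ * u := fun u => scalars_comm hz₀ u
      rw [hsi]
      calc g * (z₀ * f) * g⁻¹ * (z₀ * f)⁻¹ = z₀ * (g * f * g⁻¹ * f⁻¹) * z₀⁻¹ := by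
            rw [← mul_assoc g, hzg g]; group
        _ = g * f * g⁻¹ * f⁻¹ := by rw [← hzg, mul_inv_cancel_right]
    have hD : d.D ∈ Mi := by
      have hT := hcommi d.T d.hT
      rw [hcancel] at hT
      have hTD : d.T * d.D * d.T⁻¹ = d.D := by rw [d.td, mul_inv_cancel_right]
      have hTP : d.T * d.P * d.T⁻¹ = d.D * d.D * d.P := by rw [d.tp, mul_inv_cancel_right]
      have hT' : d.T * (d.D ^ b * d.P ^ k) * d.T⁻¹ = d.D ^ b * (d.D * d.D * d.P) ^ k := by
        rw [show d.T * (d.D ^ b * d.P ^ k) * d.T⁻¹ = (d.T * d.D ^ b * d.T⁻¹) * (d.T * d.P ^ k * d.T⁻¹) by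
          group, ← conj_pow, ← conj_pow, hTD, hTP]
      have hwc : ∀ g : GL (Fin 3) F, Commute g (scalarUnit (Fin 3) F d.w) := fun g => scalarUnit_comm _ g
      have hDscal : ∀ j : ℕ, j = 1 ∨ j = 2 → ∀ y ∈ scalars (Fin 3) F, d.D ^ j * y ∈ Mi → d.D ∈ Mi := by
        intro j hj y hy hjy
        have h1 : d.D ^ j ∈ Mi := by simpa using mul_mem hjy (inv_mem (hMiscal hy))
        rcases hj with rfl | rfl
        · simpa using h1
        · have h2 : d.D = (d.D ^ 2) ^ 2 := by
            rw [← pow_mul, show 2 * 2 = 3 + 1 from rfl, pow_add, d.dcube, one_mul, pow_one]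
          rw [h2]
          exact pow_mem h1 2
      interval_cases k
      · -- a power of the diagonal generator
        rw [pow_zero, mul_one] at hsi
        have hb0 : b ≠ 0 := by
          rintro rfl
          rw [pow_zero, mul_one] at hsi
          exact hi (hsi ▸ hz₀)
        have hM := hcommi d.M d.hM
        rw [hcancel, pow_zero, mul_one, show d.M * d.D ^ b * d.M⁻¹ = (d.M * d.D * d.M⁻¹) ^ b from conj_pow.symm,
          show d.M * d.D * d.M⁻¹ = d.P by rw [d.md, mul_inv_cancel_right]] at hM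
        have hM2 := hMiconj d.T d.hT _ hM
        -- compare with its conjugate
        have h3 : d.T * (d.P ^ b * (d.D ^ b)⁻¹) * d.T⁻¹ * (d.P ^ b * (d.D ^ b)⁻¹)⁻¹ ∈ Mi :=
          mul_mem hM2 (inv_mem hM)
        rw [show d.T * (d.P ^ b * (d.D ^ b)⁻¹) * d.T⁻¹ =
          (d.T * d.P * d.T⁻¹) ^ b * ((d.T * d.D * d.T⁻¹) ^ b)⁻¹ by rw [conj_pow, conj_pow]; group,
          hTD, hTP] at h3
        have h4 : (d.D * d.D * d.P) ^ b * (d.P ^ b)⁻¹ ∈ Mi := by
          convert h3 using 1
          group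
        interval_cases b
        · exact absurd rfl hb0
        · refine hDscal 2 (Or.inr rfl) 1 (one_mem _) ?_
          rw [mul_one, pow_two]
          rw [pow_one, pow_one, mul_inv_cancel_right] at h4
          exact h4
        · refine hDscal 1 (Or.inl rfl) (scalarUnit (Fin 3) F (d.w * d.w)) (scalarUnit_mem _) ?_
          convert h4 using 1
          exact (sq_twist d).symm
      · refine hDscal 2 (Or.inr rfl) 1 (one_mem _) ?_
        rw [hT'] at hT
        convert hMiconj _ (Subgroup.inv_mem _ (((hE _).1 (pow_mem d.hD b)).1)) _ hT using 1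
        simp only [mul_one, pow_one, pow_two, inv_inv]
        group
        exact (zpow_two d.D).symm ▸ rfl
      · refine hDscal 1 (Or.inl rfl) (scalarUnit (Fin 3) F (d.w * d.w)) (scalarUnit_mem _) ?_
        rw [hT'] at hT
        convert hMiconj _ (Subgroup.inv_mem _ (((hE _).1 (pow_mem d.hD b)).1)) _ hT using 1
        rw [← sq_twist d, inv_inv]
        group
    have hP : d.P ∈ Mi := by
      have := hMiconj d.M d.hM _ hD
      rwa [d.md, mul_inv_cancel_right] at this
    have hEi : ∀ a ∈ E, φ i a ∈ M := by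
      intro a ha
      obtain ⟨y, b', k', hy, -, -, rfl⟩ := d.exists_eq hEcomm ha
      exact (mul_mem (hMiscal hy) (mul_mem (pow_mem hD _) (pow_mem hP _)) :
        y * (d.D ^ b' * d.P ^ k') ∈ Mi)
    have hEj : ∀ j, ∀ a ∈ E, φ j a ∈ M := by
      intro j a ha
      set g := (MulAut.conj P) (glReindex e.symm (permUnit (Equiv.swap i j) : GL (Fin t → Fin 3) F)) with hg
      have hgc : (glCoord e P g : Matrix (Fin t → Fin 3) (Fin t → Fin 3) F) =
          monTensor (Equiv.swap i j) (fun _ => ((1 : GL (Fin 3) F) : Matrix (Fin 3) (Fin 3) F)) := by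
        rw [hg, glCoord_of_reindex, permUnit_coe]
      have hgK := hmonK g _ (fun _ => 1) hgc fun _ => one_mem _
      have h1 := hMinv g hgK _ (hEi a ha)
      show ψ (Pi.mulSingle j a) ∈ M
      have h2 : g * φ i a * g⁻¹ = ψ (Pi.mulSingle j a) := by
        show g * ψ (Pi.mulSingle i a) * g⁻¹ = _
        rw [hmonconj g _ _ hgc]
        congr 1
        funext l
        simp only [one_mul, inv_one, mul_one]
        by_cases h : l = j
        · subst h; simp
        · rw [Pi.mulSingle_eq_of_ne h, Pi.mulSingle_eq_of_ne fun hh => h (by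
            have := congrArg (Equiv.swap i j) hh
            rwa [Equiv.swap_apply_self, Equiv.swap_apply_left] at this)]
      rwa [h2] at h1
    refine sup_le ?_ hZM
    rw [hL, Subgroup.map_le_iff_le_comap, Subgroup.pi_le_iff]
    intro j
    rw [Subgroup.map_le_iff_le_comap]
    exact fun a ha => hEj j a ha
  obtain ⟨R, hd, hRN, -⟩ := exists_symplecticData (by rw [Fintype.card_fin]; exact hn) K N hZN hNK htop
    hcomm 3 Nat.prime_three hpow hmin
  haveI : CharP F 2 := CharTwo.of_one_ne_zero_of_two_eq_zero one_ne_zero (exists_omega hF).choose_spec.2.2.2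
  obtain ⟨m, hm1, hnm, hcard⟩ := hd.exists_m
  have hcen : Nat.card (Subgroup.center R) = 3 := by
    rcases hd.card_center_cases with ⟨-, h⟩ | ⟨h, -⟩
    · exact h
    · exact absurd h (by norm_num)
  refine ⟨subgroupNormalizer R, Or.inr (Or.inr (Or.inr (Or.inr (Or.inr (Or.inr (Or.inr (Or.inl
    ⟨3, R, 2, 2, m, hd.symplecticType, absIrred_of_adjoin_eq_top hd.adjoin_top, hRN.trans hNsim,
      by norm_num, ⟨Nat.prime_two, inferInstance, hF, by rw [hcen]; norm_num, fun j hj hj2 => ?_⟩,
      Or.inl ⟨by decide, hcen, hm1, ?_⟩, by rw [← hnm, Fintype.card_fin],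
      fun x hx y hy => hcomm x (hRN hx) y (hRN hy), rfl⟩))))))), fun g hg => ?_⟩
  · obtain rfl : j = 1 := by omega
    rw [hcen]
    norm_num
  · rw [hcard, hcen, pow_add, pow_one]
  · exact mem_normalizer_of_map_le (hd.normalized g (hHK hg))

end Cfsg.Agent.Aschbacher
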