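/-
Tensor decompositions of the unitary form.
-/
import Mathlib
import Cfsg.Agent.Aschbacher.Un.Power
import Cfsg.Agent.Aschbacher.Un.NineTwo

set_option autoImplicit false
set_option linter.style.haveILetI false

namespace Cfsg.Agent.Aschbacher

open Matrix
open Cfsg.Geo
open scoped Kronecker

variable {F : Type*} [Field F] [Fintype F] {n q : ℕ} (hF : Fintype.card F = q ^ 2)
  {H : Subgroup (GL (Fin n) F)}

include hF in
/-- An oriented tensor decomposition with hermitian factors is a member. -/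
lemma inUnClass_of_lt {a k : ℕ} (ha : 2 ≤ a) (hak : a < k) (e : Fin n ≃ Fin a × Fin k) (P : GL (Fin n) F)
    {G : Matrix (Fin a) (Fin a) F} {S : Matrix (Fin k) (Fin k) F} (hG : IsUnit G.det) (hS : IsUnit S.det)
    (hGh : (G.map (qAut hF))ᵀ = G) (hSh : (S.map (qAut hF))ᵀ = S)
    (hpull : (hermData n hF).pull e P = G ⊗ₖ S) (hle : H ≤ tensorProductSubgroup a k e P) :
    InUnClass q H := by
  refine ⟨_, Or.inr (Or.inr (Or.inr (Or.inr (Or.inr (Or.inr (Or.inr (Or.inr (Or.inr (Or.inl
    ⟨a, k, e, P, sesqForm (qAut hF).toRingHom G, sesqForm (qAut hF).toRingHom S, ha, hak,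
      isUnitaryFormPow_sesqForm hF hG hGh, isUnitaryFormPow_sesqForm hF hS hSh,
      ⟨1, one_ne_zero, fun x y => ?_⟩, rfl⟩))))))))), hle⟩
  have hgram : ∀ {j : ℕ} (M : Matrix (Fin j) (Fin j) F),
      gramMatrix (sesqForm (qAut hF).toRingHom M) = M := fun M =>
    Matrix.ext fun a b => sesqForm_single _ M a b
  rw [hgram, hgram, one_mul, ← hermData_form hF, (hermData n hF).form_pull e P x y, hpull, hermData_τ]
  simp [formOfGram, dotProduct, Matrix.mulVec, Finset.mul_sum, mul_assoc, qAut_apply]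

include hF in
/-- A tensor decomposition fixed by an irreducible group of unitary isometries puts it in a member. -/
theorem inUnClass_of_tensor [NeZero n] (hn : 2 ≤ n) (hH : H ≤ Cfsg.GU n F q) (hirr : Irred H) {a k : ℕ}
    (ha : 2 ≤ a) (hk : 2 ≤ k) (e : Fin n ≃ Fin a × Fin k) (P : GL (Fin n) F)
    (Θ : Matrix (Fin a) (Fin a) F →ₐ[F] Matrix (Fin n) (Fin n) F)
    (hΘ : ∀ x, Θ x = conjMat P ((x ⊗ₖ (1 : Matrix (Fin k) (Fin k) F)).submatrix e e))
    (hadj : ∀ x, ∃ y, (hermData n hF).adj (Θ x) = Θ y)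
    (hle : H ≤ tensorProductSubgroup a k e P) : InUnClass q H := by
  haveI : Nonempty (Fin n) := ⟨⟨0, by omega⟩⟩
  haveI : NeZero a := ⟨by omega⟩
  haveI : NeZero k := ⟨by omega⟩
  obtain ⟨G, S, hG, hS, hpull⟩ := (hermData n hF).exists_gram_tensor Θ e P hΘ hadj
  have hrefl := (hermData n hF).pull_refl e P
  rw [hpull, show (hermData n hF).ε = 1 from rfl, one_smul, hermData_τ,
    show (G ⊗ₖ S).map (qAut hF) = G.map (qAut hF) ⊗ₖ S.map (qAut hF) from
      kronecker_map (qAut hF).toRingHom G S, ← Matrix.kroneckerMap_transpose] at hrefl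
  have hSd : IsUnit ((S.map (qAut hF))ᵀ).det := by
    rw [Matrix.det_transpose, show (S.map (qAut hF)).det = qAut hF S.det from
      (RingHom.map_det (qAut hF).toRingHom S).symm]
    exact hS.map (qAut hF)
  obtain ⟨c, -, hGc, -⟩ := exists_smul_of_kronecker_eq (D := S) hG hS hrefl
  have hG0 : G ≠ 0 := fun h => by rw [h, Matrix.det_zero] at hG; exact not_isUnit_zero hG
  obtain ⟨d, hd0, hd⟩ := exists_hermitian_smul hF hG0 hGc
  set G' := d • G with hG'
  set S' := d⁻¹ • S with hS'
  have hG'u : IsUnit G'.det := isUnit_det_smul hG hd0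
  have hS'u : IsUnit S'.det := isUnit_det_smul hS (inv_ne_zero hd0)
  have hpull' : (hermData n hF).pull e P = G' ⊗ₖ S' := by
    rw [hpull, hG', hS', Matrix.smul_kronecker, Matrix.kronecker_smul, smul_smul, mul_inv_cancel₀ hd0,
      one_smul]
  have hS'h : (S'.map (qAut hF))ᵀ = S' := by
    have h1 := (hermData n hF).pull_refl e P
    rw [hpull', show (hermData n hF).ε = 1 from rfl, one_smul, hermData_τ,
      show (G' ⊗ₖ S').map (qAut hF) = G'.map (qAut hF) ⊗ₖ S'.map (qAut hF) from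
        kronecker_map (qAut hF).toRingHom G' S', ← Matrix.kroneckerMap_transpose, hd] at h1
    obtain ⟨l, -, h2, h3⟩ := exists_smul_of_kronecker_eq (D := S') hG'u hS'u h1
    have hG'0 : G' ≠ 0 := fun h => by rw [h, Matrix.det_zero] at hG'u; exact not_isUnit_zero hG'u
    have hl : l = 1 := smul_left_injective F hG'0 (h2.symm.trans (one_smul F G').symm)
    rw [hl, inv_one, one_smul] at h3
    exact h3
  rcases Nat.lt_trichotomy a k with hlt | rfl | hgt
  · exact inUnClass_of_lt hF ha hlt e P hG'u hS'u hd hS'h hpull' hle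
  swap
  · refine inUnClass_of_lt hF hk hgt (e.trans (Equiv.prodComm _ _)) P hS'u hG'u hS'h hd ?_
      (hle.trans (tensorProduct_swap e P))
    ext ⟨p, r⟩ ⟨p', r'⟩
    have h1 : (hermData n hF).pull (e.trans (Equiv.prodComm _ _)) P (p, r) (p', r') =
        (hermData n hF).pull e P (r, p) (r', p') := rfl
    rw [h1, hpull']
    simp [mul_comm]
  -- equal factors
  obtain ⟨X, hX⟩ := exists_orth hF hG'u hd
  obtain ⟨Y, hY⟩ := exists_orth hF hS'u hS'h
  set P' := P * glReindex e.symm (kronUnit (X, Y)) with hP'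
  have hpull₁ : (hermData n hF).pull e P' = 1 := by
    rw [hP', FormData.pull_change, hpull', kronUnit_coe, hermData_τ,
      show ((X : Matrix (Fin a) (Fin a) F) ⊗ₖ (Y : Matrix (Fin a) (Fin a) F)).map (qAut hF) =
        (X : Matrix (Fin a) (Fin a) F).map (qAut hF) ⊗ₖ (Y : Matrix (Fin a) (Fin a) F).map (qAut hF) from
          kronecker_map (qAut hF).toRingHom _ _, ← Matrix.kroneckerMap_transpose,
      ← Matrix.mul_kronecker_mul, ← Matrix.mul_kronecker_mul, hX, hY, Matrix.one_kronecker_one]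
  set e' := e.trans (finTwoArrowEquiv (Fin a)).symm with he'
  have hle' : H ≤ tensorWreathSubgroup a 2 e' P' :=
    (hle.trans (map_conj_change _ (kronUnit_mem X Y) e P)).trans (tensorProduct_le_wreath e P')
  have hpull₂ : (hermData n hF).pull e' P' = (1 : F) • 1 := by
    rw [one_smul]
    ext p r
    have h1 : (hermData n hF).pull e' P' p r =
        (hermData n hF).pull e P' (finTwoArrowEquiv (Fin a) p) (finTwoArrowEquiv (Fin a) r) := rfl
    rw [h1, hpull₁, Matrix.one_apply, Matrix.one_apply]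
    simp only [(finTwoArrowEquiv (Fin a)).injective.eq_iff]
  by_cases h23 : q = 2 ∧ a = 3
  · obtain ⟨rfl, rfl⟩ := h23
    exact inUnClass_of_orth_three hF hn hH e' P' one_ne_zero hpull₂ hle'
  · refine inUnClass_of_power hF hn hH hirr le_rfl ha h23 e' P' (G := 1)
      (by rw [Matrix.det_one]; exact isUnit_one)
      (by rw [Matrix.map_one _ (map_zero _) (map_one _), Matrix.transpose_one]) one_ne_zero ?_ hle'
    rw [hpull₂]
    congr 1
    exact (map_one pureTensor).symm

include hF in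
/-- A tensor power decomposition with adjoint-stable factors. -/
theorem inUnClass_of_factor_power [NeZero n] (hn : 2 ≤ n) (hH : H ≤ Cfsg.GU n F q) (hirr : Irred H)
    {t k : ℕ} (ht : 2 ≤ t) (hk : 2 ≤ k) (h23 : ¬ (q = 2 ∧ k = 3)) (e : Fin n ≃ (Fin t → Fin k))
    (P : GL (Fin n) F) (Φ : Fin t → (Matrix (Fin k) (Fin k) F →ₐ[F] Matrix (Fin n) (Fin n) F))
    (hΦ : ∀ i x, Φ i x = conjMat P ((slotHom i x).submatrix e e))
    (hadj : ∀ x, ∃ y, ∀ i, (hermData n hF).adj (Φ i x) = Φ i y)
    (hle : H ≤ tensorWreathSubgroup k t e P) : InUnClass q H := by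
  haveI : Nonempty (Fin n) := ⟨⟨0, by omega⟩⟩
  haveI : NeZero k := ⟨by omega⟩
  obtain ⟨G, c, hG, hc, hpull⟩ := (hermData n hF).exists_gram_power (by omega) Φ e P hΦ hadj
  have hG0 : G ≠ 0 := fun h => by rw [h, Matrix.det_zero] at hG; exact not_isUnit_zero hG
  have hrefl := (hermData n hF).pull_refl e P
  rw [hpull, show (hermData n hF).ε = 1 from rfl, one_smul, hermData_τ,
    Matrix.map_smul' (qAut hF) c _ (map_mul _),
    show (pureTensor fun _ : Fin t => G).map (qAut hF) = pureTensor (fun _ => G.map (qAut hF)) from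
      pureTensor_map (qAut hF).toRingHom _, Matrix.transpose_smul, pureTensor_transpose] at hrefl
  have hc0 : qAut hF c ≠ 0 := (map_ne_zero _).2 hc
  have h1 : pureTensor (fun _ : Fin t => (G.map (qAut hF))ᵀ) =
      ((qAut hF c)⁻¹ * c) • pureTensor (fun _ : Fin t => G) := by
    rw [← smul_smul, ← hrefl, smul_smul, inv_mul_cancel₀ hc0, one_smul]
  obtain ⟨α, hα⟩ := exists_smul_of_pureTensor (mul_ne_zero (inv_ne_zero hc0) hc) (fun _ => hG0) h1
    ⟨0, by omega⟩
  obtain ⟨d, hd0, hd⟩ := exists_hermitian_smul hF hG0 hα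
  refine inUnClass_of_power hF hn hH hirr ht hk h23 e P (isUnit_det_smul hG hd0) hd
    (c := c * (d ^ t)⁻¹) (mul_ne_zero hc (inv_ne_zero (pow_ne_zero _ hd0))) ?_ hle
  rw [hpull, pureTensor_smul, Finset.prod_const, Finset.card_univ, Fintype.card_fin, smul_smul,
    mul_assoc, inv_mul_cancel₀ (pow_ne_zero _ hd0), mul_one]

end Cfsg.Agent.Aschbacher
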