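/-
Aschbacher's theorem, unitary case: a subgroup of GU_n(q) lies in a member of one of the classes or is
in the residual class.
-/
import Mathlib
import Cfsg.Agent.Aschbacher.Linear
import Cfsg.Agent.Aschbacher.Un.Tensor
import Cfsg.Agent.Aschbacher.Un.Abelian
import Cfsg.Agent.Lib.Classical.UnitaryFrames
import Cfsg.Agent.Lib.Characters.Burnside

set_option autoImplicit false
set_option linter.style.haveILetI false

namespace Cfsg.Agent.Aschbacher

open Matrix
open Cfsg.Geo
open scoped commutatorElement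

variable {F : Type*} [Field F] [Fintype F]

/-- A perfect group of similitudes of a three-dimensional unitary space over four elements is trivial. -/
lemma eq_bot_of_perfect_GU_three (hF : Fintype.card F = 2 ^ 2) {G : Matrix (Fin 3) (Fin 3) F}
    (hG : IsUnit G.det) (hGh : (G.map (qAut hF))ᵀ = G) {Q : Subgroup (GL (Fin 3) F)}
    (hperf : ⁅Q, Q⁆ = Q)
    (hsim : ∀ x ∈ Q, ∃ d : F, (x : Matrix (Fin 3) (Fin 3) F)ᵀ * G *
      (x : Matrix (Fin 3) (Fin 3) F).map (qAut hF) = d • G) : Q = ⊥ := by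
  classical
  obtain ⟨X, hX⟩ := exists_orth hF hG hGh
  set Q' := Q.map (MulAut.conj X⁻¹).toMonoidHom with hQ'
  have hQU : Q' ≤ Cfsg.GU 3 F 2 := by
    rintro _ ⟨x, hx, rfl⟩
    obtain ⟨l, hl⟩ := hsim x hx
    rw [mem_GU_matrix hF]
    set A := (X : Matrix (Fin 3) (Fin 3) F)
    set B := ((X⁻¹ : GL (Fin 3) F) : Matrix (Fin 3) (Fin 3) F)
    set C := (x : Matrix (Fin 3) (Fin 3) F)
    have hco : ((MulAut.conj X⁻¹).toMonoidHom x : GL (Fin 3) F).val = B * C * A := by
      rw [MulEquiv.coe_toMonoidHom, MulAut.conj_apply, inv_inv, Units.val_mul, Units.val_mul]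
    rw [hco]
    have hBG : Bᵀ * B.map (qAut hF) = G := by
      calc Bᵀ * B.map (qAut hF) = Bᵀ * (Aᵀ * G * A.map (qAut hF)) * B.map (qAut hF) := by
            rw [hX, mul_one]
        _ = (A * B)ᵀ * G * (A * B).map (qAut hF) := by
            rw [Matrix.transpose_mul, Matrix.map_mul]; simp only [mul_assoc]
        _ = G := by
            rw [show A * B = 1 from Units.mul_inv _, Matrix.transpose_one, one_mul,
              Matrix.map_one _ (map_zero _) (map_one _), mul_one]
    have h1 : (B * C * A)ᵀ * (B * C * A).map (qAut hF) = l • 1 := by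
      calc (B * C * A)ᵀ * (B * C * A).map (qAut hF)
          = Aᵀ * (Cᵀ * (Bᵀ * B.map (qAut hF)) * C.map (qAut hF)) * A.map (qAut hF) := by
            rw [Matrix.transpose_mul, Matrix.transpose_mul, Matrix.map_mul, Matrix.map_mul]
            simp only [mul_assoc]
        _ = l • 1 := by rw [hBG, hl, Matrix.mul_smul, Matrix.smul_mul, hX]
    -- the multiplier is fixed by squaring
    have h2 := congrArg (fun M : Matrix (Fin 3) (Fin 3) F => (M.map (qAut hF))ᵀ) h1
    simp only [Matrix.map_mul, Matrix.transpose_mul, Matrix.map_map, Matrix.transpose_map,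
      Matrix.transpose_transpose] at h2
    rw [show (⇑(qAut hF) ∘ ⇑(qAut hF)) = id from funext (qAut_qAut hF),
      Matrix.map_smul' (qAut hF) l _ (map_mul _), Matrix.map_one _ (map_zero _) (map_one _),
      Matrix.transpose_smul, Matrix.transpose_one] at h2
    simp only [Matrix.map_id, Matrix.map_mul, Matrix.transpose_mul] at h1 h2
    rw [h1] at h2
    have h3 : l = l * l := by
      have := congrFun (congrFun h2 0) 0
      simpa [qAut_apply, sq] using this
    have hl0 : l ≠ 0 := by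
      rintro rfl
      rw [zero_smul] at hl
      have h4 := congrArg Matrix.det hl
      rw [Matrix.det_mul, Matrix.det_mul, Matrix.det_transpose, Matrix.det_zero,
        show (C.map (qAut hF)).det = qAut hF C.det from (RingHom.map_det (qAut hF).toRingHom C).symm] at h4
      have hC : C.det ≠ 0 := (Matrix.GeneralLinearGroup.det x).ne_zero
      exact mul_ne_zero (mul_ne_zero hC hG.ne_zero) ((map_ne_zero _).2 hC) h4
    simp only [Matrix.map_mul, Matrix.transpose_mul]
    rw [h1, (mul_eq_right₀ hl0).1 h3.symm, one_smul]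
  have hperf' : ⁅Q', Q'⁆ = Q' := by rw [hQ', ← Subgroup.map_commutator, hperf]
  have hsolv : Group.IsSolvable (Cfsg.GU 3 F 2) := by
    refine Cfsg.Agent.Characters.burnside_pa_qb (a := 3) (b := 4) Nat.prime_two Nat.prime_three ?_
    rw [Classical.Unitary.natCard_GU hF]
    norm_num [Finset.prod_range_succ]
  obtain ⟨n, hn⟩ := hsolv.solvable
  let K : Subgroup (Cfsg.GU 3 F 2) := Q'.subgroupOf (Cfsg.GU 3 F 2)
  have hK : K.map (Cfsg.GU 3 F 2).subtype = Q' := Subgroup.map_subgroupOf_eq_of_le hQU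
  have hKperf : ⁅K, K⁆ = K := by
    apply Subgroup.map_injective (Cfsg.GU 3 F 2).subtype_injective
    rw [Subgroup.map_commutator, hK, hperf']
  have hle : ∀ k, K ≤ derivedSeries (Cfsg.GU 3 F 2) k := by
    intro k
    induction k with
    | zero => simp
    | succ k ih =>
      rw [derivedSeries_succ, ← hKperf]
      exact Subgroup.commutator_mono ih ih
  have h0 : K = ⊥ := le_bot_iff.1 (hn ▸ hle n)
  have h1 : Q' = ⊥ := by rw [← hK, h0, Subgroup.map_bot]
  exact (Subgroup.map_eq_bot_iff_of_injective _ (MulAut.conj X⁻¹).injective).1 h1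

variable {n q : ℕ} (hF : Fintype.card F = q ^ 2) {H N : Subgroup (GL (Fin n) F)}

include hF in
/-- A normal subgroup that is not scalar spans all matrices, or `H` is in a class. -/
theorem adjoin_eq_top_or_inUnClass [NeZero n] (hn : 2 ≤ n) (hH : H ≤ Cfsg.GU n F q) (hirr : Irred H)
    (hN : N ≤ (hermData n hF).sim) (hnorm : ∀ g ∈ H, ∀ x ∈ N, g * x * g⁻¹ ∈ N)
    (hns : ¬ N ≤ scalars (Fin n) F) :
    InUnClass q H ∨ Algebra.adjoin F (matrixSet N) = ⊤ := by
  classical
  haveI : Nonempty (Fin n) := ⟨⟨0, by omega⟩⟩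
  set D := hermData n hF with hD
  set A := Algebra.adjoin F (matrixSet N) with hA
  have hconj : ∀ g ∈ H, ∀ x ∈ A, conjMat g x ∈ A := fun g hg x hx => conjMat_mem_adjoin (hnorm g hg) hx
  have hadj : ∀ x ∈ A, D.adj x ∈ A := fun x hx => D.adj_mem_adjoin hN hx
  by_cases hz : ∃ z₀ ∈ subCentre A, ∀ c : F, z₀ ≠ c • 1
  · exact Or.inl (inUnClass_of_centre_cases hF
      (D.centre_cases H (hH.trans (GU_le_sim hF)) hirr A hconj hadj hz))
  push Not at hz
  obtain ⟨a, ha, ⟨φ⟩⟩ := exists_algEquiv_of_scalar_centre A hirr hconj hz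
  let Θ : Matrix (Fin a) (Fin a) F →ₐ[F] Matrix (Fin n) (Fin n) F := A.val.comp φ.symm.toAlgHom
  obtain ⟨k, e, P, hP⟩ := exists_kronecker_basis Θ
  have hcard : n = a * k := by simpa using Fintype.card_congr e
  have hle : H ≤ tensorProductSubgroup a k e P := by
    intro g hg
    refine mem_tensorProduct Θ e P hP g fun x =>
      ⟨φ ⟨conjMat g (Θ x), hconj g hg _ (φ.symm x).2⟩, ?_⟩
    simp [Θ]
  rcases Nat.lt_or_ge a 2 with h1 | h1
  · obtain rfl : a = 1 := by omega
    exfalso
    apply hns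
    intro x hx
    have hscal : φ ⟨(x : Matrix _ _ F), Algebra.subset_adjoin (mem_matrixSet hx)⟩ =
        algebraMap F _ (φ ⟨(x : Matrix _ _ F), Algebra.subset_adjoin (mem_matrixSet hx)⟩ 0 0) := by
      ext i j
      rw [Matrix.algebraMap_matrix_apply, if_pos (Subsingleton.elim i j), Subsingleton.elim i 0,
        Subsingleton.elim j 0]
      rfl
    have h2 := congrArg (fun y => ((φ.symm y : A) : Matrix (Fin n) (Fin n) F)) hscal
    simp only [AlgEquiv.symm_apply_apply, AlgEquiv.commutes] at h2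
    exact mem_scalars_of_eq_smul x _ (h2.trans (Algebra.algebraMap_eq_smul_one _))
  rcases Nat.lt_trichotomy k 1 with hk | hk | hk
  · have : k = 0 := by omega
    subst this
    omega
  · right
    subst hk
    apply Algebra.toSubmodule_eq_top.1
    apply Submodule.eq_top_of_finrank_eq
    rw [Module.finrank_matrix, Module.finrank_self, mul_one]
    show Module.finrank F A = _
    rw [φ.toLinearEquiv.finrank_eq, Module.finrank_matrix, Fintype.card_fin, Fintype.card_fin,
      Module.finrank_self, mul_one, hcard, mul_one]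
  · refine Or.inl (inUnClass_of_tensor hF hn hH hirr h1 hk e P Θ hP (fun x => ?_) hle)
    exact ⟨φ ⟨_, hadj _ (φ.symm x).2⟩, by simp [Θ, hD]⟩

include hF in
/-- Several simple factors in the socle. -/
theorem inUnClass_of_factors [NeZero n] (hn : 2 ≤ n) (hH : H ≤ Cfsg.GU n F q) (hirr : Irred H)
    (hN : N ≤ H ⊔ scalars (Fin n) F) {t k : ℕ} [NeZero t]
    {Φ : Fin t → (Matrix (Fin k) (Fin k) F →ₐ[F] Matrix (Fin n) (Fin n) F)}
    {H' : Subgroup (GL (Fin n) F)} (hHH' : H ≤ H') (hH' : H' ≤ (hermData n hF).sim)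
    (hd : FactorData H' N t k Φ) : InUnClass q H := by
  classical
  haveI : Nonempty (Fin n) := ⟨⟨0, by omega⟩⟩
  haveI : NeZero k := ⟨by have := hd.two_le_dim; omega⟩
  set D := hermData n hF with hD
  have hNsim : N ≤ D.sim :=
    hN.trans (sup_le (hH.trans (GU_le_sim hF)) (hermData_scalars_le_sim hF))
  obtain ⟨e, P, hP⟩ := exists_tensor_basis Φ hd.commute hd.gen
  obtain ⟨Q, hQN, hQperf, hQns, hQrange⟩ := hd.spanned 0
  have hadj : ∀ x, ∃ y, ∀ i, D.adj (Φ i x) = Φ i y := by
    intro x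
    have h1 : D.adj (Φ 0 x) ∈ Algebra.adjoin F (matrixSet Q) := by
      refine D.adj_mem_adjoin (hQN.trans hNsim) ?_
      show Φ 0 x ∈ (Algebra.adjoin F (matrixSet Q) : Set (Matrix (Fin n) (Fin n) F))
      rw [← hQrange]
      exact ⟨x, rfl⟩
    obtain ⟨y, hy⟩ := (hQrange.symm ▸ h1 : D.adj (Φ 0 x) ∈ Set.range (Φ 0))
    refine ⟨y, fun i => ?_⟩
    obtain ⟨h, hh, hh'⟩ := hd.conj_zero i
    rw [hh', hh', D.adj_conjMat (hH' hh), hy]
  have h23 : ¬ (q = 2 ∧ k = 3) := by
    rintro ⟨rfl, rfl⟩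
    apply hQns
    -- the perfect subgroup consists of isometries
    have hQGU : Q ≤ Cfsg.GU n F 2 := by
      rw [← hQperf]
      refine le_trans (Subgroup.commutator_mono (hQN.trans hN) (hQN.trans hN)) ?_
      rw [commutator_sup_scalars]
      exact le_trans (Subgroup.commutator_mono hH hH) (Subgroup.commutator_le.2 fun a ha b hb =>
        mul_mem (mul_mem (mul_mem ha hb) (inv_mem ha)) (inv_mem hb))
    obtain ⟨G, c, hG, hc, hpull⟩ := D.exists_gram_power (Nat.pos_of_neZero t) Φ e P hP hadj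
    have hG0 : G ≠ 0 := fun h => by rw [h, Matrix.det_zero] at hG; exact not_isUnit_zero hG
    have hrefl := D.pull_refl e P
    rw [hpull, show D.ε = 1 from rfl, one_smul, hermData_τ, Matrix.map_smul' (qAut hF) c _ (map_mul _),
      show (pureTensor fun _ : Fin t => G).map (qAut hF) = pureTensor (fun _ => G.map (qAut hF)) from
        pureTensor_map (qAut hF).toRingHom _, Matrix.transpose_smul, pureTensor_transpose] at hrefl
    have hc0 : qAut hF c ≠ 0 := (map_ne_zero _).2 hc
    have h1 : pureTensor (fun _ : Fin t => (G.map (qAut hF))ᵀ) =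
        ((qAut hF c)⁻¹ * c) • pureTensor (fun _ : Fin t => G) := by
      rw [← smul_smul, ← hrefl, smul_smul, inv_mul_cancel₀ hc0, one_smul]
    obtain ⟨α, hα⟩ := exists_smul_of_pureTensor (mul_ne_zero (inv_ne_zero hc0) hc) (fun _ => hG0) h1 0
    obtain ⟨d, hd0, hdh⟩ := exists_hermitian_smul hF hG0 hα
    have hmem : ∀ x : Q, ∃ y, Φ 0 y = ((x : GL (Fin n) F) : Matrix _ _ F) := fun x => by
      have : ((x : GL (Fin n) F) : Matrix _ _ F) ∈
          (Algebra.adjoin F (matrixSet Q) : Set (Matrix (Fin n) (Fin n) F)) :=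
        Algebra.subset_adjoin (mem_matrixSet x.2)
      rwa [← hQrange] at this
    choose y hy using hmem
    have hinj := algHom_matrix_injective (Φ 0)
    let ψ : Q →* GL (Fin 3) F := MonoidHom.toHomUnits
      { toFun := y
        map_one' := hinj (by rw [hy, map_one]; rfl)
        map_mul' := fun a b => hinj (by rw [hy, map_mul, hy, hy]; rfl) }
    have hψinj : Function.Injective ψ := fun a b h => by
      have h1 : y a = y b := congrArg Units.val h
      have h2 := congrArg (Φ 0) h1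
      rw [hy, hy] at h2
      exact Subtype.ext (Units.ext h2)
    have hperf : ⁅ψ.range, ψ.range⁆ = ψ.range := by
      have hQ2 : ⁅(⊤ : Subgroup Q), (⊤ : Subgroup Q)⁆ = (⊤ : Subgroup Q) := by
        apply Subgroup.map_injective Q.subtype_injective
        rw [Subgroup.map_commutator, ← MonoidHom.range_eq_map, Q.range_subtype, hQperf]
      rw [MonoidHom.range_eq_map, ← Subgroup.map_commutator, hQ2]
    have hbot := eq_bot_of_perfect_GU_three hF (isUnit_det_smul hG hd0) hdh hperf (by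
      rintro _ ⟨x, rfl⟩
      have hxy : (glCoord e P (x : GL (Fin n) F) : Matrix (Fin t → Fin 3) (Fin t → Fin 3) F) =
          monTensor 1 (Pi.mulSingle 0 (y x)) := by
        rw [monTensor_one_left, ← slotHom_apply, glCoord, coe_glReindex, Units.val_mul, Units.val_mul,
          ← hy x, hP, conjMat_apply]
        simp only [← mul_assoc, Units.inv_mul, one_mul]
        rw [mul_assoc, Units.inv_mul, mul_one, Matrix.submatrix_submatrix]
        simp
      have hiso := D.pull_isometry e P (x : GL (Fin n) F) ((mem_GU hF).1 (hQGU x.2))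
      rw [hpull, hxy, hermData_τ, show (monTensor 1 (Pi.mulSingle (0 : Fin t) (y x) : Fin t → Matrix (Fin 3) (Fin 3) F)).map (qAut hF) =
        monTensor 1 (fun i => ((Pi.mulSingle (0 : Fin t) (y x) : Fin t → Matrix (Fin 3) (Fin 3) F) i).map
          (qAut hF)) from
          monTensor_map (qAut hF).toRingHom _ _, Matrix.mul_smul, Matrix.smul_mul, monTensor_congr_two] at hiso
      have h2 := congrArg (c⁻¹ • ·) hiso
      simp only [smul_smul, inv_mul_cancel₀ hc, one_smul] at h2
      obtain ⟨l, hl⟩ := exists_smul_of_pureTensor (Y := fun _ : Fin t => G) one_ne_zero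
        (fun _ => hG0) (h2.trans (one_smul F _).symm) 0
      rw [show ((1 : Equiv.Perm (Fin t))⁻¹ 0) = 0 from rfl, Pi.mulSingle_eq_same] at hl
      refine ⟨l, ?_⟩
      show (y x)ᵀ * (d • G) * (y x).map (qAut hF) = l • d • G
      rw [Matrix.mul_smul, Matrix.smul_mul, hl, smul_comm])
    intro x hx
    have h2 : ψ ⟨x, hx⟩ = 1 := by
      have : ψ ⟨x, hx⟩ ∈ ψ.range := ⟨_, rfl⟩
      rwa [hbot, Subgroup.mem_bot] at this
    have h3 : (⟨x, hx⟩ : Q) = 1 := hψinj (h2.trans (map_one ψ).symm)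
    rw [show x = 1 from congrArg Subtype.val h3]
    exact one_mem _
  refine inUnClass_of_factor_power hF hn hH hirr hd.two_le hd.two_le_dim h23 e P Φ hP hadj ?_
  intro g hg
  obtain ⟨σ, hσ⟩ := hd.perm g (hHH' hg)
  exact mem_tensorWreath (Nat.pos_of_neZero t) Φ hd.gen e P hP g σ hσ

include hF in
/-- Aschbacher's theorem for GU_n(q). -/
theorem unitary_class_or_residual (hn : 2 ≤ n) (hH : H ≤ Cfsg.GU n F q) :
    InUnClass q H ∨ InUnitaryResidualClass H := by
  classical
  haveI : NeZero n := ⟨by omega⟩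
  haveI : Nonempty (Fin n) := ⟨⟨0, by omega⟩⟩
  set D := hermData n hF with hD
  set Z := scalars (Fin n) F with hZ
  set H' := H ⊔ Z with hH'
  have hH'sim : H' ≤ D.sim := sup_le (hH.trans (GU_le_sim hF)) (hermData_scalars_le_sim hF)
  by_cases hirr : Irred H
  swap
  · exact Or.inl (inUnClass_of_reducible hF hH hirr)
  have hirr' : Irred H' := hirr.mono le_sup_left
  have hH'Z : ¬ H' ≤ Z := by
    intro hle
    set i₀ : Fin n := ⟨0, by omega⟩
    let W : Submodule F (Fin n → F) := Submodule.span F {Pi.single i₀ 1}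
    have hne : (Pi.single i₀ (1 : F) : Fin n → F) ≠ 0 := fun h =>
      (one_ne_zero : (1 : F) ≠ 0) (by simpa using congrFun h i₀)
    have hW : W = ⊤ := hirr'.eq_top (fun g hg v hv => by
      obtain ⟨c, hc⟩ := (Cfsg.Geo.mem_scalars_iff g).1 (hle hg)
      rw [hc, smul_mulVec']
      exact W.smul_mem _ hv) (Submodule.mem_span_singleton_self _) hne
    have h1 : Module.finrank F W = 1 := finrank_span_singleton hne
    rw [hW, finrank_top, Module.finrank_fintype_fun_eq_card, Fintype.card_fin] at h1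
    omega
  obtain ⟨N, ⟨hZN, hNZ, hNH, hnorm⟩, hNmin⟩ := exists_minimal_subgroup
    {N : Subgroup (GL (Fin n) F) | Z ≤ N ∧ ¬ N ≤ Z ∧ N ≤ H' ∧ ∀ g ∈ H', ∀ x ∈ N, g * x * g⁻¹ ∈ N}
    ⟨H', le_sup_right, hH'Z, le_rfl, fun g hg x hx => mul_mem (mul_mem hg hx) (inv_mem hg)⟩
  have hmin : ∀ M : Subgroup (GL (Fin n) F), Z ≤ M → M ≤ N →
      (∀ g ∈ H', ∀ x ∈ M, g * x * g⁻¹ ∈ M) → M = Z ∨ M = N := by
    intro M hZM hMN hM
    by_cases h : M ≤ Z
    · exact Or.inl (le_antisymm h hZM)
    · exact Or.inr (hNmin M ⟨hZM, h, hMN.trans hNH, hM⟩ hMN)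
  have hminH : ∀ M : Subgroup (GL (Fin n) F), Z ≤ M → M ≤ N →
      (∀ g ∈ H, ∀ x ∈ M, g * x * g⁻¹ ∈ M) → M = Z ∨ M = N := by
    intro M hZM hMN hM
    refine hmin M hZM hMN fun g hg x hx => ?_
    obtain ⟨h, hh, z, hz, rfl⟩ := Subgroup.mem_sup_of_normal_right.1 hg
    rw [show h * z * x * (h * z)⁻¹ = h * (z * x * z⁻¹) * h⁻¹ by group, ← scalars_comm hz x,
      mul_inv_cancel_right]
    exact hM h hh x hx
  rcases adjoin_eq_top_or_inUnClass hF hn hH hirr (hNH.trans hH'sim)
    (fun g hg => hnorm g (Subgroup.mem_sup_left hg)) hNZ with h | htop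
  · exact Or.inl h
  by_cases hab : ⁅N, N⁆ ≤ Z
  · refine Or.inl (inUnClass_of_abelian hF hn hH hirr hZN hNZ hNH
      (fun g hg => hnorm g (Subgroup.mem_sup_left hg)) htop (fun x hx y hy => ?_) hminH)
    rw [← commutatorElement_def]
    exact hab (Subgroup.commutator_mem_commutator hx hy)
  obtain ⟨T, ⟨hZT, hTZ, hTN, hTnorm⟩, hTmin'⟩ := exists_minimal_subgroup
    {T : Subgroup (GL (Fin n) F) | Z ≤ T ∧ ¬ T ≤ Z ∧ T ≤ N ∧ ∀ g ∈ N, ∀ x ∈ T, g * x * g⁻¹ ∈ T}
    ⟨N, hZN, hNZ, le_rfl, fun g hg x hx => mul_mem (mul_mem hg hx) (inv_mem hg)⟩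
  have hTmin : ∀ M : Subgroup (GL (Fin n) F), Z ≤ M → M ≤ T →
      (∀ g ∈ N, ∀ x ∈ M, g * x * g⁻¹ ∈ M) → M = Z ∨ M = T := by
    intro M hZM hMT hM
    by_cases h : M ≤ Z
    · exact Or.inl (le_antisymm h hZM)
    · exact Or.inr (hTmin' M ⟨hZM, h, hMT.trans hTN, hM⟩ hMT)
  rcases lt_or_eq_of_le hTN with hlt | rfl
  · obtain ⟨t, k, _, Φ, hd⟩ :=
      exists_factorData htop hnorm hmin hab hZT (fun h => hTZ h.le) hlt hTnorm hTmin
    exact Or.inl (inUnClass_of_factors hF hn hH hirr hNH le_sup_left hH'sim hd)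
  -- the almost simple case
  set P := ⁅T, T⁆ with hP
  have hPle : P ≤ T := by
    rw [hP, Subgroup.commutator_le]
    exact fun a ha b hb => mul_mem (mul_mem (mul_mem ha hb) (inv_mem ha)) (inv_mem hb)
  have hPconj : ∀ g ∈ H', ∀ x ∈ P, g * x * g⁻¹ ∈ P := fun g hg => conj_mem_commutator (hnorm g hg)
  have hPT : P ⊔ Z = T := by
    rcases hmin (P ⊔ Z) le_sup_right (sup_le hPle hZT) (fun g hg x hx => by
      obtain ⟨p, hp, z, hz, rfl⟩ := Subgroup.mem_sup_of_normal_right.1 hx
      rw [show g * (p * z) * g⁻¹ = (g * p * g⁻¹) * (g * z * g⁻¹) by group]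
      exact Subgroup.mul_mem _ (Subgroup.mem_sup_left (hPconj g hg p hp))
        (Subgroup.mem_sup_right (Subgroup.Normal.conj_mem inferInstance z hz g))) with h | h
    · exact absurd (le_sup_left.trans h.le) hab
    · exact h
  have hPtop : Algebra.adjoin F (matrixSet P) = ⊤ := by rw [← htop, ← hPT, adjoin_sup_scalars]
  have habs := absIrred_of_adjoin_eq_top hPtop
  have hperf : ⁅P, P⁆ = P := by rw [← commutator_sup_scalars P, hPT, hP]
  have hPH : P ≤ H := by
    rw [hP]
    refine le_trans (Subgroup.commutator_mono hNH hNH) ?_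
    rw [hH', commutator_sup_scalars, Subgroup.commutator_le]
    exact fun a ha b hb => mul_mem (mul_mem (mul_mem ha hb) (inv_mem ha)) (inv_mem hb)
  have hnorm' : ∀ g ∈ H, ∀ x ∈ P, g * x * g⁻¹ ∈ P := fun g hg => hPconj g (Subgroup.mem_sup_left hg)
  have hfixT : Fixes (qAut hF).toRingHom P D.T :=
    (fixesForm_iff _ P D.T).1 (by rintro _ ⟨s, hs, rfl⟩ u v; exact (mem_GU hF).1 (hH (hPH hs)) u v)
  by_cases hreal : ∃ F₀ : Subfield F, F₀ ≠ ⊤ ∧ RealisableOver F₀ (matrixSet P)
  · obtain ⟨F₀, hne, hr⟩ := hreal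
    refine Or.inl (inUnClass_of_realisable hF hn hH hirr habs hnorm' (fun s hs => ⟨1, one_mem _, ?_⟩) hne hr)
    rw [one_smul]
    exact hfixT s hs
  -- a fixed bilinear form would give a realisation over the fixed field
  have hbil : ∀ f : (Fin n → F) → (Fin n → F) → F, IsBilinearForm f → IsNondegenerateForm f →
      ¬ FixesForm (matrixSet P) f := by
    intro f hf hnd hfix
    obtain ⟨S, rfl⟩ := exists_sesqForm_of_bilinear hf
    obtain ⟨a₀, ha₀⟩ := exists_qAut_ne hF
    exact hreal (exists_realisable_of_two_forms (qAut hF).toRingHom (qAut_qAut hF) ha₀ habs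
      (isUnit_det_of_nondegenerate _ hnd) D.isUnit ((fixesForm_iff _ P S).1 hfix) hfixT)
  have hquad : ¬ ∃ Q : (Fin n → F) → F, IsNondegenerateQuadraticForm Q ∧ FixesQuadForm (matrixSet P) Q := by
    rintro ⟨Q, hQ, hfix⟩
    refine hbil _ hQ.polar_bilinear hQ.nondegenerate fun s hs u v => ?_
    simp only [QuadraticMap.polar, ← Matrix.mulVec_add]
    rw [hfix s hs, hfix s hs, hfix s hs]
  have hsymp : ¬ ∃ f : (Fin n → F) → (Fin n → F) → F, IsSymplecticForm f ∧ FixesForm (matrixSet P) f := by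
    rintro ⟨f, hf, hfix⟩
    exact hbil f hf.bilinear hf.nondegenerate hfix
  right
  haveI hnormZ : (Z.subgroupOf P).Normal := by
    refine ⟨fun a ha b => ?_⟩
    show (b : GL (Fin n) F) * a * (b : GL (Fin n) F)⁻¹ ∈ Z
    exact Subgroup.Normal.conj_mem inferInstance _ ha _
  have hsimple : IsSimpleGroup (P ⧸ Z.subgroupOf P) :=
    isSimpleGroup_core (fun z hz => scalars_comm hz) hZT hPle hab hPT hP hTmin
  have hnonab : ¬ IsMulCommutative (P ⧸ Z.subgroupOf P) :=
    not_isMulCommutative_of_perfect hperf (fun h => hab (hP ▸ h))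
  refine ⟨P, ⟨hPH, hnorm', hperf, hsimple, hnonab, ?_, habs, fun F₀ h0 hr => hreal ⟨F₀, h0, hr⟩⟩,
    hquad, hsymp⟩
  intro g _ hgP
  obtain ⟨c, hc⟩ := habs.2 (g : Matrix (Fin n) (Fin n) F) (by
    rintro _ ⟨p, hp, rfl⟩
    exact congrArg Units.val (commute_commutator_of_scalar hgP p (hperf.symm ▸ hp)))
  exact mem_scalars_of_eq_smul g c hc

end Cfsg.Agent.Aschbacher
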